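import Cfsg.Agent.Grz.Pearl

/-! A self-centralizing elementary abelian subgroup of order `p ^ 3` with normalizer of order
`p ^ 4` in a group of order `p ^ 5`. -/

namespace Cfsg.Lib.Grz

open Cfsg Cfsg.FusionSystem Subgroup Cfsg.Lib.Solv Cfsg.Lib.Fus Cfsg.Lib.Fus.Ess
open scoped commutatorElement

variable {G : Type*} [Group G] {p : ℕ} {E N A : Subgroup G} {y z n s e u x : G} {τ : MulAut G}
  {a b : ℕ}

instance centIn_normal [N.Normal] : (centralizerIn N N).Normal :=
  inferInstanceAs (N ⊓ centralizer (N : Set G)).Normal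

theorem comm_mem_of_sup {W X : Subgroup G} [W.Normal] (h1 : ∀ c ∈ X, ⁅c, u⁆ ∈ W) (h2 : ⁅s, u⁆ ∈ W)
    (hx : x ∈ X ⊔ zpowers s) : ⁅x, u⁆ ∈ W := by
  have k : ∀ c, c ∈ (centralizer {(u : G ⧸ W)}).comap (QuotientGroup.mk' W) ↔ ⁅c, u⁆ ∈ W :=
    fun c => by
      rw [mem_comap, mem_centralizer_singleton_iff, ← QuotientGroup.eq_one_iff,
        ← QuotientGroup.mk'_apply, ← QuotientGroup.mk'_apply, map_commutatorElement,
        commutatorElement_eq_one_iff_mul_comm]
  exact (k x).1 ((sup_le (fun c hc => (k c).2 (h1 c hc)) (zpowers_le.2 ((k s).2 h2)) :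
    X ⊔ zpowers s ≤ _) hx)

structure C0 (p : ℕ) (E N : Subgroup G) : Prop where
  card : Nat.card G = p ^ 5
  cardE : Nat.card E = p ^ 3
  comm : IsMulCommutative E
  exp : ∀ x ∈ E, x ^ p = 1
  cent : centralizer (E : Set G) ≤ E
  norm : ∀ x, x ∈ N ↔ x ∈ normalizer (E : Set G)
  cardN : Nat.card N = p ^ 4

variable [Finite G] [hp : Fact p.Prime]

namespace C0

variable (h : C0 p E N)
include h

omit [Finite G] hp in
theorem pg : IsPGroup p G := IsPGroup.of_card h.card

omit [Finite G] hp in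
theorem le : E ≤ N := fun _ hx => (h.norm _).2 (le_normalizer hx)

omit hp in
theorem index : N.index = p :=
  PG.index_eq_of_card_eq_mul (by rw [h.card, h.cardN, pow_succ'])

theorem normal : N.Normal := PG.normal_of_index_eq_prime h.pg h.index

theorem exists_not_mem : ∃ s, s ∉ N := by
  by_contra! e
  exact hp.out.one_lt.ne' (h.index.symm.trans (index_eq_one.2 ((eq_top_iff' N).2 e)))

theorem sup_top (hs : s ∉ N) : N ⊔ zpowers s = ⊤ :=
  sup_zpowers_eq_of_card_le (h.pg.to_subgroup ⊤) (by rw [card_top, h.card, h.cardN, pow_succ'])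
    le_top trivial hs

theorem abP : AbP p N E :=
  ⟨h.pg.to_subgroup N, fun e => by
    have := card_le_card_of_le (show N ≤ E from fun x hx => h.cent fun y hy =>
      mul_comm_of e (h.le hy) hx)
    rw [h.cardN, h.cardE, Nat.pow_le_pow_iff_right hp.out.one_lt] at this
    omega, h.le, h.comm, by rw [h.cardN, h.cardE, pow_succ']⟩

theorem cards : Nat.card (centralizerIn N N) = p ^ 2 ∧ Nat.card ↥⁅N, N⁆ = p := by
  have := h.normal
  obtain ⟨s, hs⟩ := h.exists_not_mem
  obtain ⟨x, hx, hx'⟩ : ∃ x ∈ E, s * x * s⁻¹ ∉ E := by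
    by_contra! e
    exact hs ((h.norm s).2 (mem_normalizer_of_finite e))
  have h1 : E.map (MulAut.conj s).toMonoidHom ≤ N := by
    rintro _ ⟨x, hx, rfl⟩
    exact this.conj_mem x (h.le hx) s
  have h2 := h.abP.card_inf h1 ⟨x, hx, rfl⟩ hx'
  rw [card_map_of_injective (MulAut.conj s).injective, h.cardE, pow_succ'] at h2
  have h3 := card_le_card_of_le (show E ⊓ E.map (MulAut.conj s).toMonoidHom ≤ centralizerIn N N from
    fun a ha => h.abP.mem_cent (h1 ⟨x, hx, rfl⟩) hx' ha.1 (by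
      obtain ⟨-, b, hb, rfl⟩ := ha
      rw [← map_mul, ← map_mul, mul_comm_of h.comm hx hb]))
  rw [← Nat.eq_of_mul_eq_mul_left hp.out.pos h2] at h3
  have h4 := h.abP.card_commutator
  have h5 := prime_le_card (h.pg.to_subgroup _) h.abP.commutator_ne_bot
  rw [h.cardE, pow_succ'] at h4
  have h6 : Nat.card (centralizerIn N N) = p ^ 2 := le_antisymm (Nat.le_of_mul_le_mul_left
    (h4 ▸ Nat.mul_le_mul_right _ h5) hp.out.pos) h3
  exact ⟨h6, Nat.eq_of_mul_eq_mul_right (pow_pos hp.out.pos 2) (h6 ▸ h4)⟩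

theorem comm_le_center : ⁅N, N⁆ ≤ center G :=
  have := h.normal
  PG.le_center_of_card_eq_prime h.pg _ h.cards.2

omit [Finite G] hp in
theorem center_le : center G ≤ centralizerIn N N := fun x hx =>
  ⟨h.le (h.cent fun y _ => mem_center_iff.1 hx y), fun y _ => mem_center_iff.1 hx y⟩

theorem supE (he : e ∈ E) (he' : e ∉ centralizerIn N N) : centralizerIn N N ⊔ zpowers e = E :=
  sup_zpowers_eq_of_card_le (h.pg.to_subgroup _) (by rw [h.cardE, h.cards.1, pow_succ'])
    h.abP.cent_le he he'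

theorem comm_not_mem (hs : s ∉ N) (he : e ∈ E) (he' : e ∉ centralizerIn N N) :
    ⁅e, s⁆ ∉ centralizerIn N N := fun k => hs ((h.norm s).2 (mem_normalizer_of_finite (by
  have := h.normal
  have h1 : E ≤ E.comap (MulAut.conj s).toMonoidHom := by
    conv_lhs => rw [← h.supE he he']
    refine sup_le (fun x hx => h.abP.cent_le ((centIn_normal (N := N)).conj_mem x hx s))
      (zpowers_le.2 ?_)
    have := E.inv_mem (E.mul_mem (E.inv_mem he) (h.abP.cent_le k))
    simpa [commutatorElement_def, mul_assoc] using this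
  exact h1)))

theorem exists_A : ∃ A : Subgroup G, A.Normal ∧ centralizerIn N N ≤ A ∧ A ≤ N ∧
    Nat.card A = p ^ 3 ∧ ⁅A, (⊤ : Subgroup G)⁆ ≤ centralizerIn N N := by
  have := h.normal
  obtain ⟨A, h1, h2, h3, h4, h5⟩ := PG.exists_normal_step h.pg (M := centralizerIn N N) (N := N)
    (lt_of_le_of_ne centralizerIn_le fun e => h.abP.nc
      ⟨⟨fun a b => Subtype.ext ((e.ge b.2).2 a a.2)⟩⟩)
  exact ⟨A, h1, h2, h3, by rw [h4, h.cards.1, ← pow_succ'], h5⟩

end C0

structure C1 (p : ℕ) (E N A : Subgroup G) (y z n : G) : Prop extends C0 p E N where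
  nA : A.Normal
  leA : centralizerIn N N ≤ A
  Ale : A ≤ N
  cardA : Nat.card A = p ^ 3
  commA : ⁅A, (⊤ : Subgroup G)⁆ ≤ centralizerIn N N
  hz : zpowers z = ⁅N, N⁆
  hy : y ∈ E
  hy' : y ∉ centralizerIn N N
  hn : n ∈ centralizerIn N N
  hn' : n ∉ zpowers z

namespace C1

variable (h : C1 p E N A y z n)
include h

theorem zc (hx : x ∈ zpowers z) : x ∈ center G := h.comm_le_center (h.hz.le hx)

theorem nZ : (zpowers z).Normal := ⟨fun x hx g => by
  rwa [mem_center_iff.1 (h.zc hx) g, mul_inv_cancel_right]⟩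

theorem cardZ : Nat.card (zpowers z) = p := h.hz ▸ h.cards.2

theorem zY : zpowers z ≤ centralizerIn N N := fun _ hx => h.center_le (h.zc hx)

theorem supY : zpowers z ⊔ zpowers n = centralizerIn N N :=
  sup_zpowers_eq_of_card_le (h.pg.to_subgroup _) (by rw [h.cards.1, h.cardZ, sq]) h.zY h.hn h.hn'

theorem mem_Y (he : e ∈ E) (he' : e ∈ A) : e ∈ centralizerIn N N := by_contra fun k => by
  have h1 : E = A := eq_of_le_of_card_le (h.supE he k ▸ sup_le h.leA (zpowers_le.2 he'))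
    (by rw [h.cardA, h.cardE])
  obtain ⟨s, hs⟩ := h.exists_not_mem
  have := h.nA
  exact hs ((h.norm s).2 (h1 ▸ le_normalizer_of_normal (mem_top s)))

theorem supN : A ⊔ zpowers y = N :=
  sup_zpowers_eq_of_card_le (h.pg.to_subgroup _) (by rw [h.cardN, h.cardA, pow_succ']) h.Ale
    (h.le h.hy) fun e => h.hy' (h.mem_Y h.hy e)

theorem supA (hu : u ∈ A) (hu' : u ∉ centralizerIn N N) : centralizerIn N N ⊔ zpowers u = A :=
  sup_zpowers_eq_of_card_le (h.pg.to_subgroup _) (by rw [h.cardA, h.cards.1, pow_succ']) h.leA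
    hu hu'

theorem cN (hx : x ∈ N) (g : G) : ⁅x, g⁆ ∈ A :=
  have := h.normal
  have := h.nA
  (PG.commutator_le_of_card_eq_prime_mul (PG.isPGroup_top h.pg) (h.pg.to_subgroup N)
    le_normalizer_of_normal le_normalizer_of_normal h.Ale
    (by rw [h.cardN, h.cardA, pow_succ'])).1 (commutator_mem_commutator hx trivial)

theorem cY (hx : x ∈ centralizerIn N N) (g : G) : ⁅x, g⁆ ∈ zpowers z :=
  have := h.normal
  have := h.nZ
  (PG.commutator_le_of_card_eq_prime_mul (PG.isPGroup_top h.pg) (h.pg.to_subgroup _)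
    le_normalizer_of_normal le_normalizer_of_normal h.zY
    (by rw [h.cards.1, h.cardZ, sq])).1 (commutator_mem_commutator hx trivial)

omit [Finite G] hp in
theorem cA (hx : x ∈ A) (g : G) : ⁅x, g⁆ ∈ centralizerIn N N :=
  h.commA (commutator_mem_commutator hx trivial)

omit [Finite G] hp in
theorem cNN (hx : x ∈ N) {g : G} (hg : g ∈ N) : ⁅x, g⁆ ∈ zpowers z :=
  h.hz.ge (commutator_mem_commutator hx hg)

theorem commA' : IsMulCommutative A :=
  comm_of_card_le (h.pg.to_subgroup _) (M := centralizerIn N N)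
    (by rw [h.cardA, h.cards.1, pow_succ']) fun x hx => ⟨h.leA hx, fun y hy => hx.2 y (h.Ale hy)⟩

theorem yu (hu : u ∈ A) (hu' : u ∉ centralizerIn N N) : ⁅y, u⁆ ∉ (⊥ : Subgroup G) := fun k =>
  hu' (h.mem_Y (h.cent fun x hx => mem_centralizer_singleton_iff.1
    ((h.supE h.hy h.hy' ▸ sup_le (fun c hc => mem_centralizer_singleton_iff.2
      (hc.2 u (h.Ale hu)).symm) (zpowers_le.2 (mem_centralizer_singleton_iff.2
        (comm_mem_bot.1 k))) : E ≤ centralizer {u}) hx)) hu)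

theorem powY (hx : x ∈ centralizerIn N N) : x ^ p = 1 := h.exp x (h.abP.cent_le hx)

theorem powA (hx : x ∈ A) : x ^ p ∈ centralizerIn N N := by
  have := h.normal
  have h1 := PG.pow_mem_of_index_eq_prime (h.pg.to_subgroup A)
    (M := (centralizerIn N N).subgroupOf A)
    (index_eq_of_card h.leA (by rw [h.cardA, h.cards.1, pow_succ'])) ⟨x, hx⟩
  exact h1

/-- The weights of a torus element. -/
structure Tor (τ : MulAut G) (N A : Subgroup G) (y z n : G) (p a b : ℕ) : Prop where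
  ab : a * b ≡ 1 [MOD p]
  ez : τ z = z ^ a
  ey : τ y = y ^ b
  en : τ n = n
  mA : ∀ x ∈ A, τ x ∈ A
  mN : ∀ x, τ x ∈ N ↔ x ∈ N

variable (t : Tor τ N A y z n p a b)
include t

omit h in
theorem mZ : ∀ x ∈ zpowers z, τ x ∈ zpowers z :=
  (zpowers_le.2 (show τ z ∈ zpowers z from t.ez ▸ pow_mem (mem_zpowers z) a) :
    zpowers z ≤ (zpowers z).comap τ.toMonoidHom)

theorem mY : ∀ x ∈ centralizerIn N N, τ x ∈ centralizerIn N N :=
  (h.supY.ge.trans (sup_le (fun x hx => h.zY (mZ t x hx))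
    (zpowers_le.2 (show τ n ∈ _ from t.en.symm ▸ h.hn))) :
    centralizerIn N N ≤ (centralizerIn N N).comap τ.toMonoidHom)

theorem weights (hs : s ∉ N) :
    Ev τ ⁅y, s⁆ (a ^ 2) (centralizerIn N N) ∧ Ev τ s (a ^ 3) N := by
  have := h.normal
  have hu := h.cN (h.le h.hy) s
  have hu' := h.comm_not_mem hs h.hy h.hy'
  obtain ⟨ν, e1⟩ := exists_ev (τ := τ) ((h.supA hu hu').ge (t.mA _ hu))
  obtain ⟨κ, e2⟩ := exists_ev (τ := τ) ((h.sup_top hs).ge (mem_top (τ s)))
  have ey : Ev τ y b ⊥ := ev_bot.2 t.ey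
  have k1 := h.cNN (h.le h.hy) (h.Ale hu)
  have e3 := (ey.comm e1 (comm_mem_of_center_left (h.zc k1)) (comm_mem_of_center_left (h.zc k1))
    (fun c hc => by rw [mem_bot.1 hc]; simp) fun c hc => comm_mem_of_comm (hc.2 y (h.le h.hy))).cast
    ((ev_bot.2 t.ez).of_zpowers k1) (h.powY (h.zY k1)) (h.yu hu hu')
  have e4 := (ey.comm e2 (h.cA hu _) (h.cA hu _) (fun c hc => by rw [mem_bot.1 hc]; simp)
    fun c hc => h.zY (h.cNN (h.le h.hy) hc)).cast e1 (h.powA hu) hu'
  have e5 := (ZMod.natCast_eq_natCast_iff _ _ _).2 t.ab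
  push_cast at e3 e4 e5
  have e6 : (ν : ZMod p) = a ^ 2 := by linear_combination a * e3 - ν * e5
  exact ⟨e1.congr (h.powA hu) (by simpa using e6), e2.congr
    (PG.pow_mem_of_index_eq_prime h.pg h.index s) (by
      push_cast; linear_combination a * e4 + a * e6 - κ * e5)⟩

theorem five (h5 : (a : ZMod p) ^ 5 ≠ 1) (hx : x ∈ A) (g : G) : ⁅x, g⁆ ∈ zpowers z := by
  have := h.normal
  have := h.nZ
  obtain ⟨s, hs⟩ := h.exists_not_mem
  have hu := h.cN (h.le h.hy) s
  have hu' := h.comm_not_mem hs h.hy h.hy'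
  obtain ⟨e1, e2⟩ := h.weights t hs
  have k := h.cA hu s
  have k1 : ⁅⁅y, s⁆, s⁆ ∈ zpowers z := by_contra fun k1 => h5 (by
    have := (e1.comm e2 (h.cY k _) (h.cY k _) (fun c hc => h.cY hc _)
      fun c hc => h.cNN (h.Ale hu) hc).cast ((ev_of_eq (t.en.trans (pow_one n).symm)).of_mem (mZ t)
        (h.supY.ge k)) (h.powY k ▸ one_mem _) k1
    push_cast at this
    linear_combination this)
  exact comm_mem_of_sup (fun c hc => h.cY hc g) (comm_mem_symm (comm_mem_of_sup
    (fun c hc => h.cNN hc (h.Ale hu)) (comm_mem_symm k1) ((h.sup_top hs).ge (mem_top g))))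
    ((h.supA hu hu').ge hx)

theorem three (h3 : (a : ZMod p) ^ 3 ≠ a) (hs : s ∉ N) : n * s = s * n := by
  have k := h.cY h.hn s
  refine comm_mem_bot.1 (by_contra fun k1 => h3 ?_)
  have := ((ev_bot.2 (t.en.trans (pow_one n).symm)).comm (h.weights t hs).2
    (comm_mem_of_center_left (h.zc k)) (comm_mem_of_center_left (h.zc k))
    (fun c hc => by rw [mem_bot.1 hc]; simp) fun c hc => comm_mem_of_comm (h.hn.2 c hc).symm).cast
    ((ev_bot.2 t.ez).of_zpowers k) (h.powY (h.zY k)) k1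
  push_cast at this
  linear_combination this

end C1

end Cfsg.Lib.Grz
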