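import Cfsg.Agent.Grz.CubeA

/-! The structure of the group of order `3 ^ 5` with an essential subgroup `C₃³`. -/

namespace Cfsg.Lib.Grz

open Cfsg Cfsg.FusionSystem Subgroup Cfsg.Lib.Solv Cfsg.Lib.Fus Cfsg.Lib.Fus.Ess
open scoped commutatorElement

variable {G : Type*} [Group G] {p : ℕ} {E N A : Subgroup G} {y z n s e u x : G} {τ : MulAut G}
  {a b : ℕ} [Finite G] [hp : Fact p.Prime]

namespace C1

variable (h : C1 p E N A y z n)
include h

theorem exists_conj_mul (hx : x ∈ N) (hx' : x ∉ A) : ∃ e ∈ E, e ∉ centralizerIn N N ∧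
    ∃ g : G, ∃ c ∈ centralizerIn N N, g * e * g⁻¹ = x * c := by
  have := h.normal
  have := h.nA
  obtain ⟨s, hs⟩ := h.exists_not_mem
  obtain ⟨k, w, hw, rfl⟩ := exists_mul_pow (h.supN.ge hx)
  have he : y ^ k ∈ E := pow_mem h.hy k
  have he' : y ^ k ∉ centralizerIn N N := fun e => hx' (mul_mem (h.leA e) hw)
  generalize y ^ k = e at *
  have t1 : Triv (MulAut.conj s) N A := fun c hc => by
    rw [MulAut.conj_apply, inv_mul_conj_eq]; exact h.cN (inv_mem hc) s
  have t2 : Triv (MulAut.conj s) A (centralizerIn N N) := fun c hc => by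
    rw [MulAut.conj_apply, inv_mul_conj_eq]; exact h.cA (inv_mem hc) s
  obtain ⟨m, c, hc, rfl⟩ := exists_mul_pow ((h.supA (t1 e (h.le he)) (by
    rw [MulAut.conj_apply, inv_mul_conj_eq]
    exact h.comm_not_mem hs (inv_mem he) fun k => he' (inv_mem_iff.1 k))).ge hw)
  obtain ⟨d, hd, k⟩ := t1.exists_pow_apply t2
    (fun c hc => (centIn_normal (N := N)).conj_mem c hc s) (h.le he) m
  refine ⟨e, he, he', s ^ m, c⁻¹ * d, mul_mem (inv_mem hc) hd, ?_⟩
  rw [← map_pow, MulAut.conj_apply] at k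
  rw [k]; group

theorem mem_A (k : ∀ g, ⁅x, g⁆ ∈ centralizerIn N N) : x ∈ A := by
  have := h.normal
  have h1 : x ∈ N := by_contra fun e => h.comm_not_mem e h.hy h.hy' (comm_mem_symm (k y))
  obtain ⟨s, hs⟩ := h.exists_not_mem
  exact by_contra fun e => h.comm_not_mem hs h.hy h.hy' (comm_mem_of_sup (fun c hc => h.cA hc s)
    (k s) ((sup_zpowers_eq_of_card_le (h.pg.to_subgroup _)
      (by rw [h.cardN, h.cardA, pow_succ']) h.Ale h1 e).ge (h.le h.hy)))

theorem central (hs : s ∉ N) (k : n * s = s * n) : centralizerIn N N ≤ center G := by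
  refine h.supY ▸ sup_le (fun _ => h.zc) (zpowers_le.2 (mem_center_iff.2 fun g => ?_))
  exact comm_mem_bot.1 (comm_mem_of_sup (fun c hc => comm_mem_of_comm (h.hn.2 c hc))
    (comm_mem_of_comm k.symm) ((h.sup_top hs).ge (mem_top g)))

variable (h5 : ∀ x ∈ A, ∀ g, ⁅x, g⁆ ∈ zpowers z)
include h5

theorem not_comm (hna : NA p G) (hs : s ∉ N) : n * s ≠ s * n := fun k => by
  have k1 := h.central hs k
  have hu := h.cN (h.le h.hy) s
  have hu' := h.comm_not_mem hs h.hy h.hy'
  generalize ⁅y, s⁆ = u at hu hu'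
  have h1 := Lib.FT.BG4.card_le_card_mul_card_inf_centralizer (H := ⊤) (v := u)
    fun x _ => comm_mem_symm (h5 u hu x)
  rw [top_inf_eq, h.cardZ, card_top, h.card, pow_succ'] at h1
  have h2 := prime_mul_card_le_card h.pg (X := centralizer {u}) fun e =>
    h.yu hu hu' (comm_mem_of_comm (mem_centralizer_singleton_iff.1 (e.ge (mem_top y))))
  rw [h.card, pow_succ'] at h2
  have h3 := Nat.eq_of_mul_eq_mul_left hp.out.pos (le_antisymm h2 h1)
  refine hna _ (comm_of_card_le (h.pg.to_subgroup _) (M := A) (by rw [h3, h.cardA, pow_succ'])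
    (h.supA hu hu' ▸ sup_le (fun c hc => ⟨center_le_centralizer _ (k1 hc),
      fun d _ => mem_center_iff.1 (k1 hc) d⟩) (zpowers_le.2 ⟨mem_centralizer_singleton_iff.2 rfl,
      fun d hd => mem_centralizer_singleton_iff.1 hd⟩))) h3

theorem commutator_eq (hs : s ∉ N) : commutator G = zpowers z ⊔ zpowers ⁅y, s⁆ := by
  have hu := h.cN (h.le h.hy) s
  refine le_antisymm ?_ (sup_le (h.hz ▸ commutator_mono le_top le_top)
    (zpowers_le.2 (commutator_mem_commutator trivial trivial)))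
  have h1 : zpowers z ⊔ zpowers ⁅y, s⁆ ≤ A := sup_le (h.zY.trans h.leA) (zpowers_le.2 hu)
  have : (zpowers z ⊔ zpowers ⁅y, s⁆).Normal := ⟨fun c hc g => by
    have := mul_mem hc (mem_sup_left (h5 _ (inv_mem (h1 hc)) g))
    simpa [commutatorElement_def, mul_assoc] using this⟩
  have h2 : ∀ c ∈ N, ∀ g, ⁅c, g⁆ ∈ zpowers z ⊔ zpowers ⁅y, s⁆ := fun c hc g =>
    comm_mem_of_sup (fun d hd => mem_sup_left (h5 d hd g)) (comm_mem_symm (comm_mem_of_sup
      (fun d hd => mem_sup_left (h.cNN hd (h.le h.hy)))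
      (comm_mem_symm (mem_sup_right (mem_zpowers _))) ((h.sup_top hs).ge (mem_top g))))
      (h.supN.ge hc)
  exact commutator_le.2 fun c _ g _ => comm_mem_of_sup (fun d hd => h2 d hd g) (comm_mem_symm
    (comm_mem_of_sup (fun d hd => h2 d hd s) (comm_mem_of_comm rfl)
      ((h.sup_top hs).ge (mem_top g)))) ((h.sup_top hs).ge (mem_top c))

theorem commutator_le_A : commutator G ≤ A := by
  obtain ⟨s, hs⟩ := h.exists_not_mem
  exact h.commutator_eq h5 hs ▸ sup_le (h.zY.trans h.leA) (zpowers_le.2 (h.cN (h.le h.hy) s))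

theorem card_commutator : Nat.card (commutator G) = p ^ 2 := by
  have := h.normal
  have := h.nZ
  obtain ⟨s, hs⟩ := h.exists_not_mem
  rw [h.commutator_eq h5 hs, PG.card_sup_zpowers hp.out (le_normalizer_of_normal (mem_top _))
    (fun e => h.comm_not_mem hs h.hy h.hy' (h.zY e)) ?_, h.cardZ, sq]
  have hy := h.le h.hy
  rw [← QuotientGroup.eq_one_iff, ← QuotientGroup.mk'_apply, show ⁅y, s⁆ = y * (s * y⁻¹ * s⁻¹) by
    rw [commutatorElement_def]; group, map_pow, map_mul, Commute.mul_pow, ← map_pow, ← map_pow,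
    conj_pow, inv_pow, h.exp y h.hy]
  · simp
  · rw [← commutatorElement_eq_one_iff_commute, ← map_commutatorElement]
    exact (QuotientGroup.eq_one_iff _).2 (h.cNN hy (h.normal.conj_mem _ (inv_mem hy) s))

theorem n_not_mem : n ∉ commutator G := fun k => by
  obtain ⟨s, hs⟩ := h.exists_not_mem
  have h1 : centralizerIn N N = commutator G := eq_of_le_of_card_le
    (h.supY ▸ sup_le (h.hz ▸ commutator_mono le_top le_top) (zpowers_le.2 k))
    (by rw [h.card_commutator h5, h.cards.1])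
  exact h.comm_not_mem hs h.hy h.hy' (h1.ge (commutator_mem_commutator trivial trivial))

variable (hna : NA p G)
include hna

theorem center_eq : center G = zpowers z := by
  obtain ⟨s, hs⟩ := h.exists_not_mem
  exact (PG.eq_or_eq_of_card_eq_prime_mul hp.out (by rw [h.cards.1, h.cardZ, sq])
    (fun _ => h.zc) h.center_le).resolve_right fun e =>
      h.not_comm h5 hna hs (mem_center_iff.1 (e.ge h.hn) s).symm

theorem mapA (τ : MulAut G) : ∀ x ∈ A, τ x ∈ A := fun x hx => h.mem_A fun g => by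
  have := char_mem _ τ _ ((h.center_eq h5 hna).ge (h5 x hx (τ⁻¹ g)))
  rw [map_commutatorElement, MulAut.apply_inv_self] at this
  exact h.center_le this

theorem triv_n (h3 : ∀ c : ZMod p, c ≠ 0 → c ^ 2 = 1) (τ : MulAut G) :
    n⁻¹ * τ n ∈ commutator G := by
  have := h.normal
  have := h.nZ
  have := h.nA
  have hW := h.commutator_le_A h5
  have mB : AInv ⊤ (centralizer (commutator G : Set G)) := (AInv.of_char _).centralizer
  generalize hB : centralizer (commutator G : Set G) = B at mB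
  have cB : ∀ {b c : G}, b ∈ B → c ∈ commutator G → c * b = b * c := fun hb hc => (hB.ge hb) _ hc
  have nB : B.Normal := hB ▸ inferInstance
  have hyB : y ∉ B := fun e => by
    obtain ⟨s, hs⟩ := h.exists_not_mem
    exact h.yu (h.cN (h.le h.hy) s) (h.comm_not_mem hs h.hy h.hy')
      (comm_mem_of_comm (cB e (commutator_mem_commutator trivial trivial)).symm)
  have k1 : Nat.card G ≤ p * Nat.card B := by
    rw [← hB, ← index_mul_card (centralizer _)]
    exact Nat.mul_le_mul_right _ (Lib.FT.BG4.index_centralizer_le h.pg _ (h.card_commutator h5).le)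
  have k2 : Nat.card B = p ^ 4 := Nat.eq_of_mul_eq_mul_left hp.out.pos (le_antisymm
    ((prime_mul_card_le_card h.pg fun e => hyB (e.ge trivial)).trans_eq (h.card.trans (pow_succ' p 4)))
    ((h.card.trans (pow_succ' p 4)).ge.trans k1))
  have k3 : A ≤ B := fun c hc => hB.le fun d hd => mul_comm_of h.commA' (hW hd) hc
  obtain ⟨s, hsB, hsA⟩ := SetLike.exists_of_lt (lt_of_le_of_ne k3 fun e => by
    have := h.cardA
    rw [e, k2, Nat.pow_right_inj hp.out.one_lt] at this
    omega)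
  have hs : s ∉ N := fun e => hyB ((sup_le k3 (zpowers_le.2 hsB)) ((sup_zpowers_eq_of_card_le
    (h.pg.to_subgroup _) (by rw [h.cardN, h.cardA, pow_succ']) h.Ale e hsA).ge (h.le h.hy)))
  have s1 : B ⊔ zpowers y = ⊤ := sup_zpowers_eq_of_card_le (h.pg.to_subgroup ⊤)
    (card_top.trans_le k1) le_top trivial hyB
  have s2 : A ⊔ zpowers s = B := sup_zpowers_eq_of_card_le (h.pg.to_subgroup _)
    (by rw [k2, h.cardA, pow_succ']) k3 hsB hsA
  have s3 : commutator G ⊔ zpowers n = A := sup_zpowers_eq_of_card_le (h.pg.to_subgroup _)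
    (by rw [h.cardA, h.card_commutator h5, pow_succ']) hW (h.leA h.hn) (h.n_not_mem h5)
  obtain ⟨α, e1⟩ := exists_ev (τ := τ) (s1.ge (mem_top (τ y)))
  obtain ⟨β, e2⟩ := exists_ev (τ := τ) (s2.ge (mB τ trivial s hsB))
  obtain ⟨ν, e3⟩ := exists_ev (τ := τ) (s3.ge (h.mapA h5 hna τ n (h.leA h.hn)))
  obtain ⟨ζ, e4⟩ := exists_ev (τ := τ) (W := ⊥) (x := z) (mem_sup_right ((h.center_eq h5 hna).le
    (char_mem _ τ z (h.zc (mem_zpowers z)))))
  have hu := h.cN (h.le h.hy) s
  have hu' := h.comm_not_mem hs h.hy h.hy'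
  have huW : ⁅y, s⁆ ∈ commutator G := commutator_mem_commutator trivial trivial
  have e5 : Ev τ ⁅y, s⁆ (α * β) (zpowers z) := e1.comm e2 (h5 _ hu _) (h5 _ hu _)
    (fun c hc => comm_mem_of_sup (fun d hd => h5 d hd _) (comm_mem_symm (comm_mem_of_sup
      (fun d hd => h5 d hd _) (comm_mem_of_comm rfl) (s2.ge (mB τ trivial s hsB)))) (s2.ge hc))
    fun c hc => comm_mem_symm (h5 c hc y)
  have k4 := h5 _ hu y
  have e6 := (e5.comm e1 (comm_mem_of_center_left (h.zc k4)) (comm_mem_of_center_left (h.zc k4))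
    (fun c hc => comm_mem_of_center_left (h.zc hc)) fun c hc => comm_mem_of_comm (cB hc huW)).cast
    (e4.of_zpowers k4) (h.powY (h.zY k4)) fun e => h.yu hu hu' (comm_mem_symm e)
  have k5 := h.cY h.hn s
  have e7 := (e3.comm e2 (comm_mem_of_center_left (h.zc k5)) (comm_mem_of_center_left (h.zc k5))
    (fun c hc => comm_mem_of_comm (cB (mB τ trivial s hsB) hc))
    fun c hc => comm_mem_of_comm (h.hn.2 c (h.Ale hc)).symm).cast
    (e4.of_zpowers k5) (h.powY (h.zY k5)) fun e => h.not_comm h5 hna hs (comm_mem_bot.1 e)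
  have a0 := e1.ne_zero (p := p) (h.exp y h.hy ▸ one_mem _) fun e => hyB ((mB.mem_iff trivial).1 e)
  have b0 := e2.ne_zero (PG.pow_mem_of_index_eq_prime (h.pg.to_subgroup B) (M := A.subgroupOf B)
    (index_eq_of_card k3 (by rw [k2, h.cardA, pow_succ'])) ⟨s, hsB⟩)
    fun e => hsA (by simpa using h.mapA h5 hna τ⁻¹ _ e)
  refine ev_one.1 (e3.congr (p := p) (h.powY h.hn ▸ one_mem _) (mul_right_cancel₀ b0 ?_))
  push_cast at e6 e7 ⊢
  linear_combination e7 - e6 + β * h3 _ a0

end C1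

end Cfsg.Lib.Grz
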