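import Cfsg.Agent.Fus.EssTor2
import Cfsg.Agent.Fus.EssInner
import Cfsg.Agent.Solv.MaxUnif

/-! Eigenvalues of automorphisms on sections of prime order, and extension of fusion maps. -/

namespace Cfsg.Lib.Grz

open Cfsg Cfsg.FusionSystem Subgroup Cfsg.Lib.Solv Cfsg.Lib.Fus Cfsg.Lib.Fus.Ess
open scoped commutatorElement

section Ev

variable {G : Type*} [Group G] {p a b : ℕ} {τ : MulAut G} {x y u v : G} {W U V : Subgroup G}

/-- `τ` raises `x` to the power `a` modulo `W`. -/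
def Ev (τ : MulAut G) (x : G) (a : ℕ) (W : Subgroup G) : Prop := (x ^ a)⁻¹ * τ x ∈ W

theorem ev_iff [W.Normal] : Ev τ x a W ↔ ((τ x : G) : G ⧸ W) = (x : G ⧸ W) ^ a := by
  rw [Ev, ← QuotientGroup.eq, QuotientGroup.mk_pow, eq_comm]

theorem ev_bot : Ev τ x a ⊥ ↔ τ x = x ^ a := by
  rw [Ev, mem_bot, inv_mul_eq_one, eq_comm]

theorem Ev.mono (h : Ev τ x a W) (hW : W ≤ U) : Ev τ x a U := hW h

theorem ev_of_eq (h : τ x = x ^ a) : Ev τ x a W := (ev_bot.2 h).mono bot_le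

theorem Ev.cast [hp : Fact p.Prime] (h1 : Ev τ x a W) (h2 : Ev τ x b W) (hx : x ^ p ∈ W)
    (hx' : x ∉ W) : (a : ZMod p) = b := by
  rw [ZMod.natCast_eq_natCast_iff]
  by_contra e
  refine hx' (mem_of_pow_of_pow hx ?_ e)
  simpa [mul_assoc] using mul_mem h1 (inv_mem h2)

theorem exists_mul_pow [Finite G] [W.Normal] (h : y ∈ W ⊔ zpowers x) :
    ∃ k : ℕ, ∃ w ∈ W, y = x ^ k * w := by
  rw [sup_comm, ← SetLike.mem_coe, mul_normal] at h
  obtain ⟨_, h1, w, hw, rfl⟩ := h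
  obtain ⟨k, rfl⟩ := (mem_powers_iff_mem_zpowers.2 h1 :)
  exact ⟨k, w, hw, rfl⟩

theorem exists_ev [Finite G] [W.Normal] (h : τ x ∈ W ⊔ zpowers x) : ∃ a, Ev τ x a W := by
  obtain ⟨k, w, hw, e⟩ := exists_mul_pow h
  exact ⟨k, by rwa [Ev, e, inv_mul_cancel_left]⟩

theorem Ev.of_mem [Finite G] [W.Normal] (h : Ev τ x a W) (hW : ∀ w ∈ W, τ w ∈ W)
    (hy : y ∈ W ⊔ zpowers x) : Ev τ y a W := by
  obtain ⟨k, w, hw, rfl⟩ := exists_mul_pow hy
  rw [ev_iff] at h ⊢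
  rw [map_mul, map_pow, QuotientGroup.mk_mul, QuotientGroup.mk_mul, QuotientGroup.mk_pow,
    QuotientGroup.mk_pow, h, (QuotientGroup.eq_one_iff _).2 hw,
    (QuotientGroup.eq_one_iff _).2 (hW w hw), mul_one, mul_one, ← pow_mul, ← pow_mul, mul_comm]

theorem Ev.of_zpowers [Finite G] (h : Ev τ x a ⊥) (hy : y ∈ zpowers x) : Ev τ y a ⊥ :=
  h.of_mem (fun w hw => by rw [mem_bot.1 hw, map_one]; exact one_mem _) (mem_sup_right hy)

theorem Ev.ne_zero (h : Ev τ x a W) (hx : x ^ p ∈ W) (h' : τ x ∉ W) : (a : ZMod p) ≠ 0 := by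
  intro e
  obtain ⟨k, rfl⟩ := (ZMod.natCast_eq_zero_iff _ _).1 e
  rw [Ev, pow_mul] at h
  exact h' (mul_inv_cancel_left ((x ^ p) ^ k) (τ x) ▸ mul_mem (pow_mem hx k) h)

theorem Ev.congr [Finite G] [W.Normal] (h : Ev τ x a W) (hx : x ^ p ∈ W)
    (e : (a : ZMod p) = b) : Ev τ x b W := by
  rw [ev_iff] at h ⊢
  rw [h]
  exact pow_eq_pow_of_modEq' (by rw [← QuotientGroup.mk_pow, (QuotientGroup.eq_one_iff _).2 hx])
    ((ZMod.natCast_eq_natCast_iff _ _ _).1 e)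

theorem Ev.comm [W.Normal] (hu : Ev τ u a U) (hv : Ev τ v b V) (h1 : ⁅⁅u, v⁆, u⁆ ∈ W)
    (h2 : ⁅⁅u, v⁆, v⁆ ∈ W) (h3 : ∀ c ∈ U, ⁅c, τ v⁆ ∈ W) (h4 : ∀ c ∈ V, ⁅u, c⁆ ∈ W) :
    Ev τ ⁅u, v⁆ (a * b) W := by
  rw [Ev, map_commutatorElement]
  exact comm_pow_mod W h1 h2 (h3 _ hu) (h4 _ hv)

theorem Ev.inv [W.Normal] (h : Ev τ x a W) : Ev τ x⁻¹ a W := by
  rw [ev_iff] at h ⊢
  rw [map_inv, QuotientGroup.mk_inv, QuotientGroup.mk_inv, h, inv_pow]

theorem ev_one : Ev τ x 1 W ↔ x⁻¹ * τ x ∈ W := by rw [Ev, pow_one]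

theorem char_mem (X : Subgroup G) [X.Characteristic] (τ : MulAut G) : ∀ x ∈ X, τ x ∈ X :=
  (AInv.of_char X : AInv ⊤ X) τ trivial

theorem char_mem_iff (X : Subgroup G) [X.Characteristic] (τ : MulAut G) {x : G} :
    τ x ∈ X ↔ x ∈ X := (AInv.of_char X : AInv ⊤ X).mem_iff trivial

theorem comm_mem_bot : ⁅u, v⁆ ∈ (⊥ : Subgroup G) ↔ u * v = v * u := by
  rw [mem_bot, commutatorElement_eq_one_iff_mul_comm]

theorem comm_mem_of_center_left (h : u ∈ center G) : ⁅u, v⁆ ∈ W := by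
  rw [commutatorElement_eq_one_iff_mul_comm.2 (mem_center_iff.1 h v).symm]; exact one_mem _

theorem comm_mem_of_comm (h : u * v = v * u) : ⁅u, v⁆ ∈ W := by
  rw [commutatorElement_eq_one_iff_mul_comm.2 h]; exact one_mem _

theorem comm_mem_symm (h : ⁅u, v⁆ ∈ W) : ⁅v, u⁆ ∈ W := by
  rw [← commutatorElement_inv]; exact inv_mem h

end Ev

section Ext

variable {Ω : Type*} [Group Ω] {S E P N D Q : Subgroup Ω} {F : FusionSystem S} {p : ℕ} [Finite S]
  [hp : Fact p.Prime] {f : Equiv.Perm Ω}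

/-- Maps on subgroups with no conjugate in an essential subgroup extend to `S`. -/
theorem exists_ext_of_not_le (hS : IsPGroup p S) (hF : F.IsSaturated p) (hf : Mor F P f)
    (h : ∀ Q E, F.IsConj P Q → F.IsEssential p E → ¬ Q ≤ E) :
    ∃ g : Equiv.Perm Ω, PIso F g S S ∧ ∀ x ∈ P, g x = f x := by
  refine alperin_essential hS hF (Φ := fun P f =>
    (∀ Q E, F.IsConj P Q → F.IsEssential p E → ¬ Q ≤ E) →
    ∃ g : Equiv.Perm Ω, PIso F g S S ∧ ∀ x ∈ P, g x = f x) ?_ ?_ ?_ ?_ P f hf h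
  · exact fun P f g _ h e hk => (h hk).imp fun _ h => ⟨h.1, fun x hx => (h.2 x hx).trans (e x hx)⟩
  · refine fun P Q f hf h e hk => (h fun R E hR hE hle => ?_).imp
      fun _ h => ⟨h.1, fun x hx => h.2 x (e hx)⟩
    obtain ⟨k, hk'⟩ := isConj_iff_piso.1 hR
    refine hk _ E (hk'.restrict e).isConj hE fun y hy => hle ?_
    have := hk'.maps (e ((hk'.restrict e).inv_maps hy))
    rwa [perm_apply_inv] at this
  · intro P Q R f g hf _ h1 h2 hk
    obtain ⟨f', h3, h4⟩ := h1 hk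
    obtain ⟨g', h5, h6⟩ := h2 fun R E hR => hk R E (isConj_trans hf.isConj hR)
    exact ⟨_, h3.trans h5, fun x hx => by
      rw [Equiv.Perm.mul_apply, h4 x hx, h6 _ (hf.maps hx), Equiv.Perm.mul_apply]⟩
  · rintro Q (rfl | hQ) - f hf hk
    · exact ⟨f, hf, fun _ _ => rfl⟩
    · exact absurd le_rfl (hk Q Q (isConj_refl F hQ.1.1) hQ)

/-- Automorphisms of a maximal subgroup that is not essential extend to `S`. -/
theorem exists_ext_of_max (hS : IsPGroup p S) (hF : F.IsSaturated p) (hlt : N < S)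
    (hc : Nat.card S ≤ p * Nat.card N) (hne : ¬ F.IsEssential p N) (hf : PIso F f N N) :
    ∃ g : Equiv.Perm Ω, PIso F g S S ∧ ∀ x ∈ N, g x = f x := by
  have h1 := closure_extendable_eq_of_not_isEssential hS hF hlt
    (isFullyNormalized_of_le_normalizer hlt.le (le_normalizer_of_card_le hS hc hlt.le)) hne
  have key : ∀ α ∈ closure {α | Extendable F N α},
      ∃ g : Equiv.Perm Ω, PIso F g S S ∧ ∀ x ∈ N, g x = pext N α x := by
    intro α hα
    induction hα using closure_induction with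
    | mem α hα =>
      obtain ⟨Q, g, h2, h3, h4⟩ := hα
      obtain rfl := eq_of_lt_of_card_le hS hc h2 h3.le
      exact ⟨g, h3.piso_top, h4⟩
    | one => exact ⟨1, PIso.refl F le_rfl, fun x _ => by rw [map_one]⟩
    | mul α β _ _ h2 h3 =>
      obtain ⟨g, h4, h5⟩ := h2
      obtain ⟨g', h6, h7⟩ := h3
      exact ⟨_, h6.trans h4, fun x hx => by
        rw [map_mul, Equiv.Perm.mul_apply, Equiv.Perm.mul_apply, h7 x hx,
          h5 _ ((pext_mem_iff β x).2 hx)]⟩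
    | inv α _ h2 =>
      obtain ⟨g, h4, h5⟩ := h2
      refine ⟨_, h4.symm, fun x hx => g.injective ?_⟩
      rw [perm_apply_inv, h5 _ ((pext_mem_iff α⁻¹ x).2 hx), map_inv, perm_apply_inv]
  obtain ⟨g, h2, h3⟩ := key _ (h1 ▸ hf.aut_mem)
  exact ⟨g, h2, fun x hx => (h3 x hx).trans (hf.pext_aut hx)⟩

theorem focal_le_of (hS : IsPGroup p S) (hF : F.IsSaturated p)
    (h : ∀ Q, Q = S ∨ F.IsEssential p Q → ∀ f : Equiv.Perm Ω, PIso F f Q Q → TrivMod Q D f) :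
    F.focalSubgroup ≤ D := by
  have key := alperin_essential hS hF (Φ := fun P f => TrivMod P D f)
    (fun P f g _ h e => h.congr e) (fun P Q f _ h e => h.mono e le_rfl)
    (fun P Q R f g hf _ h1 h2 => h2.mul h1 fun x hx => hf.maps hx) fun Q hQ _ => h Q hQ
  refine focalSubgroup_le_iff.2 fun P f hf x hx => ?_
  obtain ⟨g, h1, h2⟩ := hf.exists_perm
  exact h2 x hx ▸ key P g h1 x hx

/-- Frattini argument for the action on `Q / (Q ⊓ D)`. -/
theorem trivMod_of_aInv (hS : IsPGroup p S) (hF : F.IsSaturated p) (hQ : F.IsFullyNormalized Q)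
    (hinv : AInv (F.autGroup Q) (D.subgroupOf Q))
    (h : ∀ g : Equiv.Perm Ω, PIso F g (normalizerIn S Q) (normalizerIn S Q) →
      TrivMod (normalizerIn S Q) D g) (hf : PIso F f Q Q) : TrivMod Q D f := by
  have := finite_of_le hQ.1
  have hQN : Q ≤ normalizerIn S Q := le_normalizerIn hQ.1
  have key : F.autGroup Q ≤ trivSub (aInv_top : AInv (F.autGroup Q) ⊤) (D.subgroupOf Q) := by
    refine (sat_sylIn hS hF hQ).le_of_normalizer_coprime (fun t ht => ?_)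
      (fun a ha b hb => ⟨mul_mem (mul_mem ha hb.1) (inv_mem ha),
        hb.2.conj (fun _ _ => trivial) (hinv a ha)⟩) fun a ha hN hc => ⟨ha, fun x _ => ?_⟩
    · obtain ⟨s, hs, hsN, rfl⟩ := mem_autInducedBy'.1 ht
      exact ⟨conjAut_mem_autGroup F hQ.1 hs hsN, triv_conjAut_top_iff.2 fun x hx =>
        h _ (PIso.cj F normalizerIn_le ⟨hs, le_normalizer (show s ∈ normalizerIn S Q from
          ⟨hs, hsN⟩)⟩) x (hQN hx)⟩
    · obtain ⟨g, h1, -, h2⟩ := exists_ext_normalizer hS hF hQ ha hN hc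
      have := h g h1 x (hQN x.2)
      rwa [h2 _ x.2, pext_coe] at this
  exact fun x hx => (key hf.aut_mem).2 ⟨x, hx⟩ trivial

end Ext

end Cfsg.Lib.Grz
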