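import Cfsg.Agent.Grz.CubeB

/-! Saturated fusion systems on groups of order `p ^ 5`. -/

namespace Cfsg.Lib.Grz

open Cfsg Cfsg.FusionSystem Subgroup Cfsg.Lib.Solv Cfsg.Lib.Fus Cfsg.Lib.Fus.Ess
open scoped commutatorElement

section Gen

variable {Ω : Type*} [Group Ω] {S E N : Subgroup Ω} {F : FusionSystem S} {p : ℕ} [Finite S]
  [hp : Fact p.Prime] {z : Ω}

/-- The torus of an abelian essential subgroup on which the normalizer acts by transvections. -/
theorem exists_plane_data (hS : IsPGroup p S) (hF : F.IsSaturated p) (hE : F.IsEssential p E)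
    (hc : IsMulCommutative E) (hN : normalizerIn S E = N) (hcN : Nat.card N ≤ p * Nat.card E)
    (hz : zpowers z = ⁅N, N⁆) (hzp : z ^ p = 1) (hzc : z ∈ centralizerIn N N)
    (hY : ¬ centralizerIn N N ≤ zpowers z) :
    ∃ y n, y ∈ E ∧ y ∉ centralizerIn N N ∧ n ∈ centralizerIn N N ∧ n ∉ zpowers z ∧
      (∀ f : Equiv.Perm Ω, PIso F f E E → ∀ x ∈ zpowers z ⊔ zpowers y,
        f x ∈ zpowers z ⊔ zpowers y) ∧
      ∀ a b : ℕ, a * b ≡ 1 [MOD p] → ∃ g : Equiv.Perm Ω, PIso F g N N ∧ PIso F g E E ∧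
        g z = z ^ a ∧ g y = y ^ b ∧ g n = n := by
  subst hN
  have hES := hE.1.1
  have := finite_of_le hES
  have hEN : E ≤ normalizerIn S E := le_normalizerIn hES
  have hYE : centralizerIn (normalizerIn S E) (normalizerIn S E) ≤ E := fun x hx =>
    isCentric_self hE.1 ⟨hx.1.1, fun y hy => hx.2 y (hEN hy)⟩
  obtain ⟨x, hx, hxN, hxE, hxp, ht⟩ := (radIn_of_essential hS hE).exists_rad hS le_rfl
    (lt_of_isEssential hS hF hE)
  have tv : Tv p (conjAut E x hxN) ⟨z, hYE hzc⟩ := ⟨Subtype.ext hzp,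
    Subtype.ext (mul_inv_eq_iff_eq_mul.2 (hzc.2 x ⟨hx, hxN⟩)), fun e _ => coe_mem_zpowers_iff.1 (by
      show (e : Ω)⁻¹ * (x * e * x⁻¹) ∈ zpowers z
      rw [inv_mul_conj_eq, hz]
      exact commutator_mem_commutator (inv_mem (hEN e.2)) ⟨hx, hxN⟩)⟩
  obtain ⟨t, s, y, h1, h2, h3⟩ := ht.exists_plane hc.1.1 tv
  have h4 : E ⊔ zpowers x = normalizerIn S E :=
    sup_zpowers_eq_of_card_le (hS.to_le normalizerIn_le) hcN hEN ⟨hx, hxN⟩ hxE
  have h5 : autInducedBy S E = zpowers t := h1 ▸ le_antisymm (fun α hα => by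
    obtain ⟨u, hu, huN, rfl⟩ := mem_autInducedBy'.1 hα
    exact conjAut_mem_zpowers hxN hc.1.1 (h4.ge ⟨hu, huN⟩) huN)
    (zpowers_le_of_mem (conjAut_mem_autInducedBy hx hxN))
  have h6 : ∀ w : E, t w = w ↔ (w : Ω) ∈ centralizerIn (normalizerIn S E) (normalizerIn S E) := by
    refine fun w => ⟨fun e => ⟨hEN w.2, fun u hu => mul_inv_eq_iff_eq_mul.1 (congrArg Subtype.val
      (apply_of_mem_zpowers_aut (h5.le (conjAut_mem_autInducedBy hu.1 hu.2)) e))⟩, fun e => ?_⟩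
    obtain ⟨u, hu, huN, rfl⟩ := mem_autInducedBy'.1 (h5.ge (mem_zpowers t))
    exact Subtype.ext (mul_inv_eq_iff_eq_mul.2 (e.2 u ⟨hu, huN⟩))
  obtain ⟨v, hv, hv'⟩ := SetLike.not_le_iff_exists.1 hY
  obtain ⟨u, hu, hn⟩ := h3.exists_fix_of_fix ((h6 ⟨v, hYE hv⟩).2 hv)
  have hsyl := h5 ▸ sat_sylIn hS hF hE.2.1
  refine ⟨y, (⟨v, hYE hv⟩ * u : E), y.2, fun e => h3.ne (left_eq_mul.1 (((h6 y).2 e).symm.trans h3.e1)),
    (h6 _).1 (mem_fixS.1 hn.1), fun e => hv' ((mul_mem_cancel_right (coe_mem_zpowers_iff.2 hu)).1 e),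
    fun f hf w hw => ?_, fun a b hab => ?_⟩
  · have e : (zpowers (⟨z, hYE hzc⟩ : E) ⊔ zpowers y).map E.subtype = zpowers z ⊔ zpowers (y : Ω) := by
      rw [Subgroup.map_sup, MonoidHom.map_zpowers, MonoidHom.map_zpowers]; rfl
    obtain ⟨w, hw', rfl⟩ := e.ge hw
    exact e.le ⟨_, h3.aInv_plane ht.pg h2 hsyl _ hf.aut_mem w hw', rfl⟩
  · obtain ⟨δ, k1, k2, k3, k4, k5⟩ := h3.exists_diag hab
    have k6 : δ ∈ F.autGroup E := (closure_le _).2 (Set.pair_subset (hsyl.le (mem_zpowers t)) h2) k1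
    obtain ⟨g, k7, k8⟩ := exists_ext_aut (sat_receptive hS hF hE.2.1) k6 le_rfl fun w hw => by
      obtain ⟨i, hi⟩ := h5.le (conjAut_mem_autInducedBy hw.1 hw.2)
      rw [← hi, ← conj_zpow, k5, h5]
      exact zpow_mem (pow_mem (mem_zpowers t) _) i
    have k9 := k7.piso_of_eqOn hEN (piso_pext_of_mem hES k6) k8
    refine ⟨g, k7.piso_of_maps fun w hw => k9.map_normalizer k7 hEN hw hw.2, k9, ?_, ?_, ?_⟩
    · exact (k8 _ (hYE hzc)).trans ((pext_coe δ ⟨z, hYE hzc⟩).trans (congrArg Subtype.val k2))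
    · exact (k8 _ y.2).trans ((pext_coe δ y).trans (congrArg Subtype.val k3))
    · exact (k8 _ (Subtype.prop _)).trans ((pext_coe δ _).trans (congrArg Subtype.val (k4 _ hn)))

end Gen

variable {G : Type*} [Group G] [Finite G] {p : ℕ} [hp : Fact p.Prime]
  {F : FusionSystem (⊤ : Subgroup G)} {E N A : Subgroup G} {y z n : G} {f : Equiv.Perm G}

theorem C1.piso_A (h : C1 p E N A y z n) (hE : F.IsFullyNormalized E) (hf : PIso F f N N) :
    ∀ x ∈ A, f x ∈ A := fun x hx => by_contra fun hx' => by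
  have := h.normal
  have := h.nA
  obtain ⟨e, he, he', g, c, hc, k⟩ := h.exists_conj_mul (hf.maps (h.Ale hx)) hx'
  have k1 : Mor F E (f⁻¹ * cj g : Equiv.Perm G) := (Mor.cj F le_top trivial).pmul hf.symm.mor
    fun w hw => h.normal.conj_mem w (h.le hw) g
  have k2 : ∀ w ∈ E, (f⁻¹ * cj g : Equiv.Perm G) w ∈ A := by
    rw [← img_le_iff]
    have k3 := k1.mulOn
    rw [← h.supE he he'] at k3 ⊢
    rw [img_sup k3, img_zpowers k3 (mem_sup_right (mem_zpowers e))]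
    refine sup_le (img_le_iff.2 fun w hw => h.leA (PIso.map_cent_self hf.symm
      ((centIn_normal (N := N)).conj_mem w hw g))) (zpowers_le.2 ?_)
    rw [Equiv.Perm.mul_apply, cj_apply, k, hf.symm.map_mul (hf.maps (h.Ale hx)) hc.1,
      perm_inv_apply]
    exact mul_mem hx (h.leA (PIso.map_cent_self hf.symm hc))
  have k4 := (isFullyNormalized_iff_piso.1 hE).2 A _
    (k1.piso_of_card le_top k2 (by rw [h.cardA, h.cardE]))
  rw [normalizerIn_eq_of_le le_normalizer_of_normal, card_top, h.card,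
    show normalizerIn ⊤ E = N from Subgroup.ext fun w => ⟨fun e => (h.norm w).2 e.2,
      fun e => ⟨trivial, (h.norm w).1 e⟩⟩, h.cardN, Nat.pow_le_pow_iff_right hp.out.one_lt] at k4
  omega

theorem C1.not_essential (h : C1 p E N A y z n) (hF : F.IsSaturated p)
    (hE : F.IsFullyNormalized E) : ¬ F.IsEssential p N := fun hN => by
  obtain ⟨t, ht⟩ := exists_rad_of_essential (PG.isPGroup_top h.pg) hF hN
  have a1 : AInv (F.autGroup N) (A.subgroupOf N) :=
    aInv_of_piso le_top fun f hf x _ hx => h.piso_A hE hf x hx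
  have a2 : AInv (F.autGroup N) ((centralizerIn N N).subgroupOf N) :=
    aInv_of_piso le_top fun f hf x _ hx => PIso.map_cent_self hf hx
  have a3 : AInv (F.autGroup N) ((zpowers z).subgroupOf N) :=
    aInv_of_piso le_top fun f hf x _ hx => h.hz ▸ PIso.map_commutator_self hf (h.hz ▸ hx)
  have c1 := card_subgroupOf_of_le h.Ale
  have c2 := card_subgroupOf_of_le (h.leA.trans h.Ale)
  have c3 := card_subgroupOf_of_le (h.zY.trans (h.leA.trans h.Ale))
  refine ht.not_ptr ((ht.step aInv_top a1 le_top ?_).trans ht.pg (((ht.step a1 a2 (fun _ e =>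
    h.leA e) ?_).trans ht.pg (ht.step a2 a3 (fun _ e => h.zY e) ?_) a3).trans ht.pg
    (ht.step a3 aInv_bot bot_le ?_) aInv_bot) aInv_bot)
  · rw [card_top, c1, h.cardN, h.cardA, pow_succ']
  · rw [c1, c2, h.cardA, h.cards.1, pow_succ']
  · rw [c2, c3, h.cards.1, h.cardZ, sq]
  · rw [c3, h.cardZ, card_bot, mul_one]

variable (hc : Nat.card G = p ^ 5) (hF : F.IsSaturated p)
include hc hF

theorem exists_c1 (hp2 : p ≠ 2) (hE : F.IsEssential p E) (h3 : Nat.card E = p ^ 3)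
    (hcm : IsMulCommutative E) : ∃ A y z n, C1 p E (normalizerIn ⊤ E) A y z n ∧
      (∀ f : Equiv.Perm G, PIso F f E E → ∀ x ∈ zpowers z ⊔ zpowers y,
        f x ∈ zpowers z ⊔ zpowers y) ∧ ∀ a b : ℕ, a * b ≡ 1 [MOD p] →
        ∃ τ ∈ AutF F, C1.Tor τ (normalizerIn ⊤ E) A y z n p a b := by
  have hG : IsPGroup p G := IsPGroup.of_card hc
  have hS := PG.isPGroup_top hG
  obtain ⟨t, ht⟩ := exists_rad_of_essential hS hF hE
  have h0 : C0 p E (normalizerIn ⊤ E) := ⟨hc, h3, hcm, fun x hx => congrArg Subtype.val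
    (((ht.card_cube h3).resolve_right fun e => hp2 e.1).1 ⟨x, hx⟩), cent_le_of hE.1,
    fun x => ⟨fun e => e.2, fun e => ⟨trivial, e⟩⟩, card_normalizerIn_cube hS hF hE hcm.1.1 h3⟩
  obtain ⟨z, hz, hz1⟩ := PG.exists_orderOf_eq_prime (hG.to_subgroup _) h0.abP.commutator_ne_bot
  have hz2 := zpowers_eq_of_card_prime h0.cards.2 hz fun e => by
    rw [e, orderOf_one] at hz1; exact hp.out.one_lt.ne hz1
  obtain ⟨y, n, k1, k2, k3, k4, k5, k6⟩ := exists_plane_data hS hF hE hcm rfl h0.abP.card.le hz2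
    (hz1 ▸ pow_orderOf_eq_one z) (h0.center_le (h0.comm_le_center hz)) fun e => by
      have := card_le_card_of_le e
      rw [h0.cards.1, hz2, h0.cards.2, sq] at this
      nlinarith [hp.out.two_le]
  obtain ⟨A, a1, a2, a3, a4, a5⟩ := h0.exists_A
  have h : C1 p E (normalizerIn ⊤ E) A y z n := ⟨h0, a1, a2, a3, a4, a5, hz2, k1, k2, k3, k4⟩
  refine ⟨A, y, z, n, h, k5, fun a b hab => ?_⟩
  obtain ⟨g, g1, -, g2, g3, g4⟩ := k6 a b hab
  obtain ⟨s, hs⟩ := h0.exists_not_mem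
  obtain ⟨g', g5, g6⟩ := exists_ext_of_max hS hF (lt_top_iff_ne_top.2 fun e => hs (e.ge trivial))
    (by rw [card_top, hc, h0.cardN, pow_succ']) (h.not_essential hF hE.2.1) g1
  obtain ⟨τ, hτ, e⟩ := exists_autF g5
  refine ⟨τ, hτ, hab, ?_, ?_, ?_, fun x hx => ?_, fun x => ?_⟩
  · rw [e, g6 z (h.zY (mem_zpowers z)).1, g2]
  · rw [e, g6 y (h.le k1), g3]
  · rw [e, g6 n k3.1, g4]
  · rw [e, g6 x (a3 hx)]; exact h.piso_A hE.2.1 g1 x hx
  · rw [e]; exact (g5.mor.piso_of_eqOn le_top g1 g6).mem x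

omit hp hc hF in
theorem cube_triv [Fact (Nat.Prime 3)] (hc : Nat.card G = 3 ^ 5) (hF : F.IsSaturated 3)
    (hE : F.IsEssential 3 E) (h3 : Nat.card E = 3 ^ 3) (hcm : IsMulCommutative E)
    (hf : PIso F f E E) : TrivMod E (Dd F) f := by
  obtain ⟨A, y, z, n, h, k1, k2⟩ := exists_c1 hc hF (by decide) hE h3 hcm
  have hS := PG.isPGroup_top h.pg
  obtain ⟨τ, hτ, t⟩ := k2 2 2 (by decide)
  have h1 : zpowers z ⊔ zpowers y ≤ E ⊓ Dd F := sup_le (le_inf (h.zY.trans h.abP.cent_le)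
    ((h.hz.le.trans (commutator_mono le_top le_top)).trans commutator_le_Dd))
    (zpowers_le.2 ⟨h.hy, by simpa [t.ey, sq] using mem_Dd hτ y⟩)
  have h2 : Nat.card E = 3 * Nat.card ↥(zpowers z ⊔ zpowers y) := by
    have := h.nZ
    rw [PG.card_sup_zpowers Nat.prime_three (le_normalizer_of_normal (mem_top _))
      (fun e => h.hy' (h.zY e)) (h.exp y h.hy ▸ one_mem _), h.cardZ, h3]
    rfl
  refine trivMod_of_aInv hS hF hE.2.1 (aInv_of_piso le_top fun f hf x hx hx' => ?_)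
    (fun g hg x hx => ?_) hf
  · rcases PG.eq_or_eq_of_card_eq_prime_mul Nat.prime_three h2 h1 inf_le_left with e | e
    · exact (e.ge (k1 f hf x (e.le ⟨hx, hx'⟩))).2
    · exact (e.ge (hf.maps hx)).2
  · obtain ⟨s, hs⟩ := h.exists_not_mem
    obtain ⟨g', g5, g6⟩ := exists_ext_of_max hS hF (lt_top_iff_ne_top.2 fun e => hs (e.ge trivial))
      (by rw [card_top, hc, h.cardN, pow_succ']) (h.not_essential hF hE.2.1) hg
    exact g6 x hx ▸ trivMod_Dd g5 x trivial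

theorem cube_false (hna : NA p G) (hp2 : p ≠ 2) (hE : F.IsEssential p E) (h3 : Nat.card E = p ^ 3)
    (hcm : IsMulCommutative E) : ¬ ⊤ ≤ F.focalSubgroup := fun hfoc => by
  obtain ⟨A, y, z, n, h, -, k2⟩ := exists_c1 hc hF hp2 hE h3 hcm
  obtain ⟨τ, -, t⟩ := k2 _ _ neg_one_sq
  have h5 : ∀ x ∈ A, ∀ g, ⁅x, g⁆ ∈ zpowers z := fun x hx g => h.five t (by
    rw [neg_one_cast]
    exact fun e => two_ne hp2 (by linear_combination -e)) hx g
  obtain ⟨s, hs⟩ := h.exists_not_mem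
  obtain rfl : p = 3 := by
    by_contra hp3
    obtain ⟨a, ha⟩ := exists_half hp2
    obtain ⟨τ, -, t⟩ := k2 2 a (mul_comm a 2 ▸ ha)
    refine h.not_comm h5 hna hs (h.three t (fun e => ?_) hs)
    have : p ∣ 2 * 3 := (ZMod.natCast_eq_zero_iff _ _).1 (by push_cast at e ⊢; linear_combination e)
    exact (hp.out.dvd_mul.1 this).elim
      (fun e => hp2 ((Nat.prime_dvd_prime_iff_eq hp.out Nat.prime_two).1 e))
      fun e => hp3 ((Nat.prime_dvd_prime_iff_eq hp.out Nat.prime_three).1 e)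
  have hmc : ¬ MC 3 3 G := fun e => by
    have := (h.card_commutator h5).symm.trans (e.card_gam le_rfl)
    omega
  have h1 : F.focalSubgroup ≤ Dd F := focal_le_of (PG.isPGroup_top h.pg) hF (by
    rintro Q (rfl | hQ) f hf
    · exact trivMod_Dd hf
    rcases ess_card hc hF hQ with e | e | e
    · exact absurd (mc_of_pearl hc hQ (Or.inl e)) hmc
    · by_cases e' : IsMulCommutative Q
      · exact cube_triv hc hF hQ e e' hf
      · exact absurd (mc_of_pearl hc hQ (Or.inr ⟨e, e'⟩)) hmc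
    · exact four_triv h.pg hF hc hQ e (fun e' => hna Q ⟨⟨e'⟩⟩ e) hf)
  exact h.n_not_mem h5 (mem_of_mem_Dd h.pg hF le_rfl (AInv.of_char _)
    (fun τ _ => h.triv_n h5 hna sq_three τ) (h1 (hfoc trivial)))

theorem five_main (hp2 : p ≠ 2) (hp7 : p ≠ 7) (hcore : F.core = ⊥)
    (hfoc : ⊤ ≤ F.focalSubgroup) : ¬ NA p G := fun hna => by
  have hG : IsPGroup p G := IsPGroup.of_card hc
  have h3 : ∀ Q, F.IsEssential p Q → Nat.card Q ≠ p ^ 3 := fun Q hQ e => by
    by_cases e' : IsMulCommutative Q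
    · exact cube_false hc hF hna hp2 hQ e e' hfoc
    · exact not_pearl_cube hc hF hna hp2 hQ e e'
  have h2 : ∀ Q, F.IsEssential p Q → Nat.card Q ≠ p ^ 2 := fun Q hQ e => by
    obtain rfl := (pearl_prime hc hF hna hp2 h3 hQ e).resolve_right hp7
    exact pearl_three hc hF hna h3 hQ e hfoc
  refine center_ne_bot hG (hc ▸ Nat.one_lt_pow (by omega) hp.out.one_lt)
    (le_bot_iff.1 (hcore ▸ le_core (isNormal_of_essential (PG.isPGroup_top hG) hF ?_)))
  rintro Q (rfl | hQ)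
  · exact ⟨le_top, fun f hf x hx => cent_top.le (PIso.map_cent_self hf (cent_top.ge hx))⟩
  have e := ((ess_card hc hF hQ).resolve_left (h2 Q hQ)).resolve_left (h3 Q hQ)
  exact ⟨cent_top.ge.trans (cent_le_of_isCentric hQ.1),
    (four_center hG hF hc hQ e fun e' => hna Q ⟨⟨e'⟩⟩ e).2⟩

end Cfsg.Lib.Grz
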