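import Cfsg.Agent.Grz.Ev

/-! A subgroup of `GL₃(p)` with a strongly `p`-embedded subgroup has Sylow `p`-subgroups of
order `p`. -/

namespace Cfsg.Lib.Grz

open Cfsg Cfsg.FusionSystem Subgroup Cfsg.Lib.Solv Cfsg.Lib.Fus Cfsg.Lib.Fus.Ess
open scoped commutatorElement

/-- `H` is strongly `p`-embedded in `A` and contains the Sylow subgroup `T`. -/
structure SE {M : Type*} [Group M] (p : ℕ) (A T H : Subgroup M) : Prop where
  syl : SylIn p T A
  le : T ≤ H
  lt : H < A
  fuse : ∀ g ∈ A, ∀ t ∈ T, t ≠ 1 → g * t * g⁻¹ ∈ T → g ∈ H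

section Abs

variable {M : Type*} [Group M] {p : ℕ} [hp : Fact p.Prime] {A T H K : Subgroup M} [Finite A]
  {a b t t' : M}

theorem SE.mem_of_pgroup (h : SE p A T H) (ha : a ∈ A) (hb : b ∈ A) (ht : t ∈ T) (h1 : t ≠ 1)
    (ht' : t' ∈ T) (h1' : t' ≠ 1) (hK : IsPGroup p K) (e : a * t * a⁻¹ ∈ K)
    (e' : b * t' * b⁻¹ ∈ K) : a⁻¹ * b ∈ H := by
  obtain ⟨c, hc, k⟩ := h.syl.exists_conj (U := K ⊓ A) inf_le_right (hK.to_le inf_le_left)
  have m1 := h.fuse _ (mul_mem hc ha) t ht h1 (by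
    simpa [mul_assoc] using k _ ⟨e, A.mul_mem (A.mul_mem ha (h.syl.le ht)) (A.inv_mem ha)⟩)
  have m2 := h.fuse _ (mul_mem hc hb) t' ht' h1' (by
    simpa [mul_assoc] using k _ ⟨e', A.mul_mem (A.mul_mem hb (h.syl.le ht')) (A.inv_mem hb)⟩)
  simpa [mul_assoc] using mul_mem (inv_mem m1) m2

theorem SE.mem_of_conj_mem (h : SE p A T H) (ha : a ∈ A) (ht : t ∈ T) (h1 : t ≠ 1)
    (e : a⁻¹ * t * a ∈ H) : a ∈ H := by
  have := finite_of_le h.lt.le
  obtain ⟨k, hk⟩ := PG.exists_pow_prime_pow_eq_one h.syl.pgroup ht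
  obtain ⟨c, hc, k⟩ := (h.syl.mono h.le h.lt.le).exists_conj (zpowers_le.2 e)
    (PG.isPGroup_zpowers (k := k) (by
      rw [show a⁻¹ * t * a = a⁻¹ * t * a⁻¹⁻¹ by rw [inv_inv], conj_pow, hk]; group))
  have m1 := h.fuse _ (mul_mem (h.lt.le hc) (inv_mem ha)) t ht h1 (by
    simpa [mul_assoc] using k _ (mem_zpowers _))
  simpa using mul_mem (inv_mem m1) hc

end Abs

section Lin

variable {V : Type*} [Group V] [Finite V] {p : ℕ} [hp : Fact p.Prime]
  {A T H B : Subgroup (MulAut V)}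

theorem card_le_of_card_sq (hc : Nat.card V = p ^ 2) (hB : IsPGroup p B) : Nat.card B ≤ p := by
  have hV : IsPGroup p V := IsPGroup.of_card hc
  have : Nontrivial V := Finite.one_lt_card_iff_nontrivial.1
    (hc ▸ Nat.one_lt_pow two_ne_zero hp.out.one_lt)
  obtain ⟨K, -, -, h1, h2, h3⟩ := exists_aInv_step hV hB aInv_top aInv_bot bot_lt_top
  rw [card_bot, mul_one] at h2
  have h4 : Nat.card (⊤ : Subgroup V) ≤ p * Nat.card K := by rw [card_top, hc, h2, sq]
  have h5 : ∀ u : B, Triv u.1 ⊤ K := fun u => triv_of_card_le hV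
    ((hB u).imp fun k hk => congrArg Subtype.val hk) (fun _ _ => trivial) (h1 _ u.2) le_top h4
  obtain ⟨y, hy⟩ : ∃ y, y ∉ K := by
    by_contra! e
    rw [(eq_top_iff' K).2 e, card_top, hc, sq] at h2
    nlinarith [hp.out.two_le]
  have h6 := sup_zpowers_eq_of_card_le (hV.to_subgroup ⊤) h4 le_top trivial hy
  refine h2 ▸ Nat.card_le_card_of_injective (fun u : B => (⟨y⁻¹ * u.1 y, h5 u y trivial⟩ : K))
    fun u v e => Subtype.ext (MulEquiv.ext fun x => ?_)
  have e' : u.1 y = v.1 y := mul_left_cancel (congrArg Subtype.val e)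
  have : ⊤ ≤ u.1.toMonoidHom.eqLocus v.1.toMonoidHom := h6 ▸ sup_le (fun w hw =>
    (triv_bot_iff.1 (h3 _ u.2) w hw).trans (triv_bot_iff.1 (h3 _ v.2) w hw).symm) (zpowers_le.2 e')
  exact this (mem_top x)

theorem Tv.exists_fix {t : MulAut V} {z c : V} (h : Tv p t z) (hc : ∀ a b : V, a * b = b * a)
    (ht : t c ≠ c) (v : V) : ∃ k : ℕ, t (v * (c ^ k)⁻¹) = v * (c ^ k)⁻¹ := by
  have h1 : c⁻¹ * t c ≠ 1 := fun e => ht (inv_mul_eq_one.1 e).symm
  have h2 : zpowers (c⁻¹ * t c) = zpowers z := zpowers_eq_of_card_prime (by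
    rw [Nat.card_zpowers, orderOf_eq_prime h.pow (h.ne_one ht)]) (h.triv c trivial) h1
  obtain ⟨k, hk⟩ := mem_powers_iff_mem_zpowers.2 (h2.ge (h.triv v trivial))
  refine ⟨k, ?_⟩
  generalize hr : c⁻¹ * t c = r at hk
  have e1 : t c = c * r := by rw [← hr, mul_inv_cancel_left]
  have e2 : t v = v * r ^ k := by rw [show r ^ k = _ from hk, mul_inv_cancel_left]
  rw [map_mul, map_inv, map_pow, e1, e2, Commute.mul_pow (hc c r)]
  group

theorem SE.card_le (h : SE p A T H) (hc : Nat.card V = p ^ 3) (hcm : ∀ a b : V, a * b = b * a) :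
    Nat.card T ≤ p := by
  by_contra! hlt
  have hV : IsPGroup p V := IsPGroup.of_card hc
  have : Nontrivial V := Finite.one_lt_card_iff_nontrivial.1
    (hc ▸ Nat.one_lt_pow three_ne_zero hp.out.one_lt)
  obtain ⟨K, -, -, h1, h2, h3⟩ := exists_aInv_step hV h.syl.pgroup aInv_top aInv_bot bot_lt_top
  rw [card_bot, mul_one] at h2
  obtain ⟨c, hcK, hc1⟩ := PG.exists_orderOf_eq_prime (hV.to_subgroup K) fun e => by
    rw [e, card_bot] at h2; exact hp.out.one_lt.ne h2
  obtain rfl := zpowers_eq_of_card_prime h2 hcK fun e => by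
    rw [e, orderOf_one] at hc1; exact hp.out.one_lt.ne hc1
  have : (zpowers c).Normal := ⟨fun a ha b => by rwa [hcm b, mul_inv_cancel_right]⟩
  have h4 : Nat.card (V ⧸ zpowers c) = p ^ 2 := PG.index_eq_of_card_eq_mul (by
    rw [hc, h2, pow_succ])
  obtain ⟨z, hz, hz1⟩ : ∃ z : T, quoHom h1 z = 1 ∧ z ≠ 1 := by
    by_contra! e
    have := Nat.card_le_card_of_injective _ ((quoHom h1).rangeRestrict_injective_iff.2
      ((injective_iff_map_eq_one _).2 e))
    exact absurd (this.trans (card_le_of_card_sq h4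
      (h.syl.pgroup.of_surjective _ (quoHom h1).rangeRestrict_surjective))) hlt.not_ge
  obtain ⟨z, hzT⟩ := z
  replace hz1 : z ≠ 1 := fun e => hz1 (Subtype.ext e)
  have fx : ∀ u ∈ T, u c = c := fun u hu => triv_bot_iff.1 (h3 u hu) c hcK
  have tv : Tv p z c := ⟨hc1 ▸ pow_orderOf_eq_one c, fx z hzT, (quoHom_eq_one_iff _ _).1 hz⟩
  obtain ⟨α, hα, hαH⟩ := SetLike.exists_of_lt h.lt
  have tv' := tv.conj α
  have ap : ∀ K : Subgroup (MulAut V), IsPGroup p K → z ∈ K → α * z * α⁻¹ ∈ K → False :=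
    fun K hK e e' => hαH (by
      simpa using h.mem_of_pgroup (one_mem A) hα hzT hz1 hzT hz1 hK (by simpa using e) e')
  have k1 : z (α c) ≠ α c := fun e => ap _ (tv'.isPGroup hV tv e)
    (subset_closure (by simp)) (subset_closure (by simp))
  have k2 : (α * z * α⁻¹) c ≠ c := fun e => ap _ (tv.isPGroup hV tv' e)
    (subset_closure (by simp)) (subset_closure (by simp))
  obtain ⟨u, hu, huz⟩ : ∃ u ∈ T, u ∉ zpowers z := by
    by_contra! e
    have := card_le_card_of_le (show T ≤ zpowers z from e)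
    rw [Nat.card_zpowers, orderOf_eq_prime tv.pow_eq_one hz1] at this
    omega
  obtain ⟨k, hk⟩ := Tv.exists_fix tv' hcm k2 (u (α c))
  obtain ⟨j, hj⟩ := tv.exists_pow k1 (inv_mem (pow_mem (mem_zpowers c) k))
  have hv : u * z ^ j ∈ T := mul_mem hu (pow_mem hzT j)
  have e : (u * z ^ j) (α c) = u (α c) * (c ^ k)⁻¹ := by
    rw [MulAut.mul_apply, hj, map_mul, map_inv, map_pow, fx u hu]
  have k3 := (tv'.conj (u * z ^ j)).isPGroup hV tv' (by rw [e, hk])
  refine hαH (h.mem_of_conj_mem hα hv (fun e => huz ?_) ?_)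
  · rw [eq_inv_of_mul_eq_one_left e]
    exact inv_mem (pow_mem (mem_zpowers z) j)
  · rw [mul_assoc]
    exact h.mem_of_pgroup hα (mul_mem (h.syl.le hv) hα) hzT hz1 hzT hz1 k3
      (subset_closure (by simp)) (subset_closure (by simp [mul_assoc]))

end Lin

variable {Ω : Type*} [Group Ω] {S E : Subgroup Ω} {F : FusionSystem S} {p : ℕ} [Finite S]
  [hp : Fact p.Prime]

theorem se_of_essential (hS : IsPGroup p S) (hF : F.IsSaturated p) (hE : F.IsEssential p E)
    (hc : ∀ a b : E, a * b = b * a) :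
    SE p (F.autGroup E) (autInducedBy S E) (closure {α | Extendable F E α}) := by
  have h1 : ∀ t : MulAut E, t ≠ 1 → t ∉ Inn E := fun t ht e => ht (by
    obtain ⟨x, hx, e⟩ := mem_inn_iff.1 e
    exact MulEquiv.ext fun y => Subtype.ext ((e y).trans (mul_inv_eq_iff_eq_mul.2
      (congrArg Subtype.val (hc ⟨x, hx⟩ y)))))
  have h2 : ∀ g ∈ F.autGroup E, ∀ t ∈ autInducedBy S E, t ≠ 1 → g * t * g⁻¹ ∈ autInducedBy S E →
      g ∈ closure {α | Extendable F E α} := fun g hg t ht ht1 e => subset_closure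
    ((extendable_iff_of_isCentric hS hF hE.1 hg).2 ⟨t, ht, h1 t ht1, e⟩)
  refine ⟨sat_sylIn hS hF hE.2.1, fun t ht => ?_, lt_of_le_of_ne
    ((closure_le _).2 fun _ h => h.mem) (closure_extendable_ne_of_isEssential hS hF hE), h2⟩
  by_cases e : t = 1
  · exact e ▸ one_mem _
  · exact h2 t (autInducedBy_le_autGroup F hE.1.1 ht) t ht e (by simpa using ht)

/-- An abelian essential subgroup of order `p ^ 3` has index `p` in its normalizer. -/
theorem card_normalizerIn_cube (hS : IsPGroup p S) (hF : F.IsSaturated p) (hE : F.IsEssential p E)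
    (hc : ∀ a b : E, a * b = b * a) (h3 : Nat.card E = p ^ 3) :
    Nat.card (normalizerIn S E) = p ^ 4 := by
  have := finite_of_le hE.1.1
  have := finite_autGroup F hE.1.1
  have h1 := (se_of_essential hS hF hE hc).card_le h3 hc
  refine le_antisymm ?_ ?_
  · rw [card_normalizerIn_eq, pow_succ']
    exact Nat.mul_le_mul h1 (h3 ▸ card_le_card_of_le (isCentric_self hE.1))
  · rw [pow_succ', ← h3]
    exact prime_mul_card_le_of_lt' (hS.to_le normalizerIn_le)
      (lt_normalizerIn hS (lt_of_isEssential hS hF hE))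

end Cfsg.Lib.Grz
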