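import Cfsg.Agent.Grz.Top

/-! Groups of order `p ^ 5` and maximal class without abelian maximal subgroup. -/

namespace Cfsg.Lib.Grz

open Cfsg Cfsg.FusionSystem Subgroup Cfsg.Lib.Solv Cfsg.Lib.Fus Cfsg.Lib.Fus.Ess
open scoped commutatorElement

variable {G : Type*} [Group G] [Finite G] {p : ℕ} [hp : Fact p.Prime] {τ : MulAut G} {x : G}
  {l : ℕ}

/-- No abelian subgroup of order `p ^ 4`. -/
def NA (p : ℕ) (G : Type*) [Group G] : Prop :=
  ∀ A : Subgroup G, IsMulCommutative A → Nat.card A ≠ p ^ 4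

omit [Finite G] hp in
theorem twoStep_map (i : ℕ) (τ : MulAut G) : ∀ x ∈ twoStep G i, τ x ∈ twoStep G i :=
  fun x hx => mem_twoStep.2 fun y hy => by
    have := char_mem _ τ _ (mem_twoStep.1 hx _ (char_mem _ τ⁻¹ y hy))
    rwa [map_commutatorElement, MulAut.apply_inv_self] at this

omit [Finite G] hp in
theorem mul_comm_of {A : Subgroup G} (h : IsMulCommutative A) {a b : G} (ha : a ∈ A) (hb : b ∈ A) :
    a * b = b * a := congrArg Subtype.val (h.1.1 ⟨a, ha⟩ ⟨b, hb⟩)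

omit [Finite G] hp in
instance twoStep_normal (i : ℕ) : (twoStep G i).Normal :=
  ⟨fun x hx g => twoStep_map i (MulAut.conj g) x hx⟩

namespace M5

variable (h : MC p 3 G)
include h

theorem g4 : gam G 4 = ⊥ := h.gam_eq_bot le_rfl

theorem comm1 : IsMulCommutative (gam G 1) :=
  comm_of_card_le (h.pg.to_subgroup _) (h.card_gam_le le_rfl) fun x hx =>
    ⟨gam_anti one_le_two hx, fun y hy => comm_mem_bot.1 (g4 h ▸ comm_mem_gam hy hx le_rfl)⟩

theorem le_two : twoStep G 1 ≤ twoStep G 2 := fun x hx => mem_twoStep.2 fun y hy => by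
  have h1 : ⁅⁅gam G 1, (⊤ : Subgroup G)⁆, twoStep G 1⁆ = ⊥ := by
    refine commutator_commutator_eq_bot_of_rotate (eq_bot_iff.2 ?_) (eq_bot_iff.2 ?_)
    · exact (commutator_mono (commutator_mono le_rfl le_top) le_rfl).trans
        (commutator_le.2 fun a ha b hb => comm_mem_bot.2 (mul_comm_of (comm1 h) ha hb))
    · refine (commutator_mono (commutator_le.2 fun a ha b hb => mem_twoStep.1 ha b hb)
        le_rfl).trans (commutator_le.2 fun a ha b _ => ?_)
      exact g4 h ▸ comm_mem_gam (j := 0) ha trivial le_rfl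
  exact comm_mem_symm (bot_le (a := gam G 4) (h1.le (commutator_mem_commutator hy hx)))

theorem card_two : Nat.card (twoStep G 1) = p ^ 4 := by
  refine le_antisymm (Nat.le_of_mul_le_mul_left ?_ hp.out.pos)
    (Nat.le_of_mul_le_mul_left ?_ hp.out.pos)
  · rw [← pow_succ', ← h.card]
    exact prime_mul_card_le_card h.pg (h.twoStep_ne_top (by omega))
  · rw [← pow_succ', ← h.card]
    exact h.card_twoStep le_rfl

theorem comm2 (hx : x ∈ twoStep G 1) {y : G} (hy : y ∈ gam G 2) : x * y = y * x :=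
  comm_mem_bot.1 (g4 h ▸ mem_twoStep.1 (le_two h hx) y hy)

theorem unif (hx : x ∉ twoStep G 1) : Unif p 3 x := by
  refine ⟨h.card, h.card_centralizer_le (by omega) fun i h1 h2 => ?_⟩
  obtain rfl | rfl : i = 1 ∨ i = 2 := by omega
  · exact hx
  · rwa [h.eq_of_le (h.card_twoStep le_rfl) (le_two h) (h.twoStep_ne_top le_rfl)]

theorem exists_u : ∃ u ∈ twoStep G 1, u ∉ gam G 1 := by
  by_contra! e
  have := card_le_card_of_le (show twoStep G 1 ≤ gam G 1 from e)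
  rw [card_two h, h.card_gam le_rfl, Nat.pow_le_pow_iff_right hp.out.one_lt] at this
  omega

theorem sup_top (hx : x ∉ twoStep G 1) : twoStep G 1 ⊔ zpowers x = ⊤ :=
  sup_zpowers_eq_of_card_le (h.pg.to_subgroup ⊤) (card_top.trans_le (h.card_twoStep le_rfl))
    le_top trivial hx

theorem eig (hna : NA p G) (hx : x ∉ twoStep G 1) (e : Ev τ x l (twoStep G 1)) :
    (∀ u ∈ twoStep G 1, Ev τ u (l ^ 2) (gam G 1)) ∧ (∀ u ∈ gam G 2, Ev τ u (l ^ 4) (gam G 3)) ∧
      ∀ u ∈ gam G 3, Ev τ u (l ^ 5) ⊥ := by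
  have hs := unif h hx
  obtain ⟨u, hu, hu'⟩ := exists_u h
  have hC : gam G 1 ⊔ zpowers u = twoStep G 1 := sup_zpowers_eq_of_card_le (h.pg.to_subgroup _)
    (by rw [card_two h, h.card_gam le_rfl, pow_succ']) gam_le_twoStep hu hu'
  obtain ⟨m, em⟩ := exists_ev (τ := τ) (hC.ge (twoStep_map 1 τ u hu))
  have a2 : ⁅x⁻¹, u⁆ ∈ gam G 1 := comm_mem_gam (i := 0) (j := 0) trivial trivial le_rfl
  have b2 : ⁅x⁻¹, u⁆ ∉ gam G 2 := dl_eq x u ▸ hs.dl_not_mem (i := 0) (by omega) hx gam_le_twoStep hu hu'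
  have e2 : Ev τ ⁅x⁻¹, u⁆ (l * m) (gam G 2) := e.inv.comm em
    (comm_mem_gam (j := 0) a2 trivial le_rfl) (comm_mem_gam (j := 0) a2 trivial le_rfl)
    (fun c hc => h.commutator_le (h.twoStep_ne_top (by omega)) gam_le_twoStep
      (commutator_mem_commutator hc (twoStep_map 1 τ u hu)))
    fun c hc => comm_mem_gam (i := 0) trivial hc le_rfl
  generalize ⁅x⁻¹, u⁆ = v at a2 b2 e2
  have a3 : ⁅x⁻¹, v⁆ ∈ gam G 2 := comm_mem_gam (i := 0) trivial a2 le_rfl
  have b3 : ⁅x⁻¹, v⁆ ∉ gam G 3 := dl_eq x v ▸ hs.dl_not_mem' le_rfl (by omega) a2 b2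
  have e3 : Ev τ ⁅x⁻¹, v⁆ (l * (l * m)) (gam G 3) := e.inv.comm e2
    (comm_mem_gam (j := 0) a3 trivial le_rfl) (comm_mem_gam (j := 0) a3 trivial le_rfl)
    (fun c hc => mem_twoStep.1 hc _ (char_mem _ τ v a2))
    fun c hc => comm_mem_gam (i := 0) trivial hc le_rfl
  generalize ⁅x⁻¹, v⁆ = w at a3 b3 e3
  have a4 : ⁅x⁻¹, w⁆ ∈ gam G 3 := comm_mem_gam (i := 0) trivial a3 le_rfl
  have b4 : ⁅x⁻¹, w⁆ ∉ gam G 4 := dl_eq x w ▸ hs.dl_not_mem' one_le_two (by omega) a3 b3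
  have c4 : ∀ {a : G}, a ∈ gam G 3 → ∀ b : G, ⁅a, b⁆ ∈ (⊥ : Subgroup G) := fun ha b =>
    g4 h ▸ comm_mem_gam (j := 0) ha trivial le_rfl
  have e4 : Ev τ ⁅x⁻¹, w⁆ (l * (l * (l * m))) ⊥ := e.inv.comm e3 (c4 a4 _) (c4 a4 _)
    (fun c hc => comm_mem_of_comm (comm2 h hc (char_mem _ τ w a3)))
    fun c hc => comm_mem_symm (c4 hc _)
  generalize ⁅x⁻¹, w⁆ = y at a4 b4 e4
  have k3 : ∀ a ∈ gam G 3, Ev τ a (l * (l * (l * m))) ⊥ := fun a ha => e4.of_zpowers (by
    have := (h.sup_zpowers (by omega) a4 b4).ge ha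
    rwa [g4 h, bot_sup_eq] at this)
  have p3 : ∀ a ∈ gam G 3, a ^ p ∈ (⊥ : Subgroup G) := fun a ha =>
    g4 h ▸ gam_anti (by have := hp.out.two_le; omega) (h.pow_mem' (by omega) ha)
  have a5 : ⁅u, v⁆ ∈ gam G 3 := mem_twoStep.1 hu v a2
  have b5 : ⁅u, v⁆ ∉ (⊥ : Subgroup G) := fun e5 => hna _ (comm_of_card_le (h.pg.to_subgroup _)
    (M := gam G 1) (by rw [card_two h, h.card_gam le_rfl, pow_succ']) (by
      rw [← h.sup_zpowers le_rfl a2 b2]
      refine sup_le (fun a ha => ⟨gam_le_twoStep (gam_anti one_le_two ha),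
        fun b hb => comm2 h hb ha⟩) (zpowers_le.2 ⟨gam_le_twoStep a2, fun b hb => ?_⟩)
      have : twoStep G 1 ≤ centralizer {v} := hC ▸ sup_le (fun c hc =>
        mem_centralizer_singleton_iff.2 (mul_comm_of (comm1 h) hc a2))
        (zpowers_le.2 (mem_centralizer_singleton_iff.2 (comm_mem_bot.1 e5)))
      exact mem_centralizer_singleton_iff.1 (this hb))) (card_two h)
  have e5 : Ev τ ⁅u, v⁆ (m * (l * m)) ⊥ := em.comm e2 (c4 a5 _) (c4 a5 _)
    (fun c hc => comm_mem_of_comm (mul_comm_of (comm1 h) hc (char_mem _ τ v a2)))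
    fun c hc => comm_mem_of_comm (comm2 h hu hc)
  have k := e5.cast (k3 _ a5) (p3 _ a5) b5
  have l0 := e.ne_zero (gam_le_twoStep (h.pow_mem_gam (by omega) x)) fun e' =>
    hx (by simpa using twoStep_map 1 τ⁻¹ _ e')
  have m0 := em.ne_zero (h.pow_mem_gam (by omega) u) fun e' => hu' ((char_mem_iff _ τ).1 e')
  have k' : (m : ZMod p) = l ^ 2 := by
    push_cast at k
    refine mul_left_cancel₀ (mul_ne_zero l0 m0) ?_
    linear_combination k
  refine ⟨fun a ha => ((em.congr (h.pow_mem_gam (by omega) u) (by simpa using k')).of_mem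
    (char_mem _ τ) (hC.ge ha)), fun a ha => ?_, fun a ha => (k3 a ha).congr (p3 a ha) ?_⟩
  · refine (e3.congr (gam_anti (by have := hp.out.two_le; omega) (h.pow_mem' one_le_two a3))
      ?_).of_mem (char_mem _ τ) ((h.sup_zpowers one_le_two a3 b3).ge ha)
    push_cast; rw [k']; ring
  · push_cast; rw [k']; ring

end M5

end Cfsg.Lib.Grz
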