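import Cfsg.Agent.Grz.MaxFive

/-! Pearls in groups of order `p ^ 5`. -/

namespace Cfsg.Lib.Grz

open Cfsg Cfsg.FusionSystem Subgroup Cfsg.Lib.Solv Cfsg.Lib.Fus Cfsg.Lib.Fus.Ess
open scoped commutatorElement

variable {G : Type*} [Group G] [Finite G] {p : ℕ} [hp : Fact p.Prime]
  {F : FusionSystem (⊤ : Subgroup G)} {E Q : Subgroup G}

omit [Finite G] hp in
theorem cent_le_of (hE : F.IsCentric E) : centralizer (E : Set G) ≤ E :=
  fun _ hx => isCentric_self hE ⟨trivial, hx⟩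

theorem neg_one_cast : ((p - 1 : ℕ) : ZMod p) = -1 := by
  rw [Nat.cast_sub hp.out.one_le, ZMod.natCast_self, Nat.cast_one, zero_sub]

theorem neg_one_sq : (p - 1) * (p - 1) ≡ 1 [MOD p] := by
  rw [← ZMod.natCast_eq_natCast_iff, Nat.cast_mul, neg_one_cast]; simp

theorem sq_three : ∀ c : ZMod 3, c ≠ 0 → c ^ 2 = 1 := by decide

theorem two_ne (hp2 : p ≠ 2) : (2 : ZMod p) ≠ 0 := fun e =>
  hp2 ((Nat.prime_dvd_prime_iff_eq hp.out Nat.prime_two).1 ((ZMod.natCast_eq_zero_iff 2 p).1 e))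

theorem exists_half (hp2 : p ≠ 2) : ∃ a : ℕ, a * 2 ≡ 1 [MOD p] := by
  refine ⟨((2 : ZMod p)⁻¹).val, ?_⟩
  rw [← ZMod.natCast_eq_natCast_iff, Nat.cast_mul, ZMod.natCast_zmod_val, Nat.cast_one]
  exact inv_mul_cancel₀ (two_ne hp2)

variable (hc : Nat.card G = p ^ 5) (hF : F.IsSaturated p)
include hc hF

theorem ess_card (hE : F.IsEssential p E) :
    Nat.card E = p ^ 2 ∨ Nat.card E = p ^ 3 ∨ Nat.card E = p ^ 4 := by
  have hG : IsPGroup p G := IsPGroup.of_card hc
  obtain ⟨t, ht⟩ := exists_rad_of_essential (PG.isPGroup_top hG) hF hE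
  obtain ⟨k, hk⟩ := IsPGroup.iff_card.1 ht.pg
  have h1 := (Nat.le_mul_of_pos_right _ Nat.card_pos).trans ht.sq_mul_card_frattini_le
  have h2 := card_lt_card_of_lt (lt_of_isEssential (PG.isPGroup_top hG) hF hE)
  rw [hk, Nat.pow_le_pow_iff_right hp.out.one_lt] at h1
  rw [hk, card_top, hc, Nat.pow_lt_pow_iff_right hp.out.one_lt] at h2
  obtain rfl | rfl | rfl : k = 2 ∨ k = 3 ∨ k = 4 := by omega
  exacts [Or.inl hk, Or.inr (Or.inl hk), Or.inr (Or.inr hk)]

omit hF in
theorem mc_of_pearl (hE : F.IsEssential p E)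
    (h : Nat.card E = p ^ 2 ∨ Nat.card E = p ^ 3 ∧ ¬ IsMulCommutative E) : MC p 3 G := by
  obtain ⟨s, hs⟩ := exists_unif_of_selfCent (IsPGroup.of_card hc) h (cent_le_of hE.1)
  exact (⟨hc, hs⟩ : Unif p 3 s).mc

variable (hna : NA p G)
include hna

theorem card_cent_four (hE : F.IsEssential p E) (h4 : Nat.card E = p ^ 4) :
    Nat.card (centralizerIn E E) = p ^ 2 :=
  (four_center (IsPGroup.of_card hc) hF hc hE h4 fun e => hna E ⟨⟨e⟩⟩ h4).1

theorem not_pearl_cube (hp2 : p ≠ 2) (hE : F.IsEssential p E) (h3 : Nat.card E = p ^ 3)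
    (hn : ¬ IsMulCommutative E) : False := by
  have h := mc_of_pearl hc hE (Or.inr ⟨h3, hn⟩)
  have hS := PG.isPGroup_top h.pg
  have hZ : center G = gam G 3 := Trans.MaxClass.center_eq h.card h.ne (by omega)
  have hZc : Nat.card (center G) = p := Trans.MaxClass.card_center h.card h.ne (by omega)
  have h1 : center G ≤ E := cent_top.ge.trans (cent_le_of_isCentric hE.1)
  have h2 : center G = centralizerIn E E := eq_of_le_of_card_le
    (fun x hx => ⟨h1 hx, fun y _ => mem_center_iff.1 hx y⟩) (by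
      have := sq_mul_card_center_le (h.pg.to_subgroup E) fun e => hn ⟨⟨e⟩⟩
      rw [h3, pow_succ p 2, ← card_map_of_injective E.subtype_injective, map_subtype_center] at this
      exact hZc.symm ▸ Nat.le_of_mul_le_mul_left this (pow_pos hp.out.pos 2))
  obtain ⟨g, z, y, k1, -, -, k2, k3, k4, k5, k6, k7, -⟩ := exists_torus_ess hS hF hE h1
    (aInv_of_piso le_top fun f hf x _ hx => h2 ▸ PIso.map_cent_self hf (h2 ▸ hx))
    (by rw [h3, hZc, pow_succ]) (fun s _ y hy => mul_inv_eq_iff_eq_mul.2 (mem_center_iff.1 hy s))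
    neg_one_sq
  have hlt : normalizerIn ⊤ E < ⊤ := lt_top_iff_ne_top.2 fun e => by
    have : E.Normal := normalizer_eq_top_iff.1 (top_le_iff.1 (e.ge.trans inf_le_right))
    exact hn (Trans.MaxClass.eq_lowerCentralSeries h.card h.ne E (i := 0) (by omega) h3 ▸
      M5.comm1 h)
  have hEN := lt_normalizerIn hS (lt_of_isEssential hS hF hE)
  have h4 : p ^ 4 ≤ Nat.card (normalizerIn ⊤ E) := by
    rw [pow_succ', ← h3]; exact prime_mul_card_le_of_lt' (hS.to_le le_top) hEN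
  have h5 : Nat.card (normalizerIn ⊤ E) = p ^ 4 := le_antisymm (Nat.le_of_mul_le_mul_left (by
    rw [← pow_succ', ← hc]; exact prime_mul_card_le_card h.pg hlt.ne) hp.out.pos) h4
  obtain ⟨g', k8, k9⟩ := exists_ext_of_max hS hF hlt (by rw [card_top, hc, h5, pow_succ'])
    (fun e => by
      have := card_le_card_of_le (show centralizerIn (normalizerIn ⊤ E) (normalizerIn ⊤ E) ≤
        center G from fun x hx => h2.ge ⟨cent_le_of hE.1 fun y hy => hx.2 y (hEN.le hy),
          fun y hy => hx.2 y (hEN.le hy)⟩)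
      rw [card_cent_four hc hF hna e h5, hZc, sq] at this
      nlinarith [hp.out.two_le]) k1
  obtain ⟨τ, -, hτ⟩ := exists_autF k8
  have ez : Ev τ z (p - 1) (gam G 3) := by rwa [Ev, hτ, k9 z (hEN.le k2), ← hZ]
  have ey : Ev τ y (p - 1) (gam G 3) := by rwa [Ev, hτ, k9 y (hEN.le k3), ← hZ]
  have h6 : gam G 1 ≤ normalizerIn ⊤ E := PG.commutator_le_of_index_eq_prime h.pg
    (PG.index_eq_of_card_eq_mul (by rw [hc, h5, pow_succ']))
  have h7 : z⁻¹ ∈ twoStep G 1 := mem_twoStep.2 fun c hc =>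
    hZ ▸ inv_mul_conj_eq z c ▸ k7 c (h6 hc)
  have g31 : gam G 3 ≤ twoStep G 1 := (gam_anti (by omega)).trans gam_le_twoStep
  have h8 : y ∉ twoStep G 1 := fun e => by
    have hE' : E ≤ twoStep G 1 := k6 ▸ sup_le (hZ ▸ g31)
      (sup_le (zpowers_le.2 (inv_mem_iff.1 h7)) (zpowers_le.2 e))
    have := card_le_card_of_le (show gam G 2 ≤ center G from fun x hx => h2.ge
      ⟨cent_le_of hE.1 fun y hy => M5.comm2 h (hE' hy) hx, fun y hy => M5.comm2 h (hE' hy) hx⟩)
    rw [h.card_gam one_le_two, hZc, show 3 + 1 - 2 = 2 from rfl, sq] at this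
    nlinarith [hp.out.two_le]
  have hs := M5.unif h h8
  have h9 : dl y z⁻¹ ∈ gam G 3 := by
    rw [dl_eq]
    exact comm_mem_symm (hZ ▸ inv_mul_conj_eq z y⁻¹ ▸ k7 _ (hEN.le (inv_mem k3)))
  have h10 : z⁻¹ ∈ gam G 1 := by_contra fun e =>
    hs.dl_not_mem (i := 0) (by omega) h8 gam_le_twoStep h7 e (gam_anti (by omega) h9)
  have h11 : z ∈ gam G 2 := inv_mem_iff.1 (by_contra fun e => hs.dl_not_mem' le_rfl (by omega) h10 e h9)
  have h12 : z ∉ gam G 3 := fun e => hn (comm_of_card_le (h.pg.to_subgroup E) (M := center G ⊔ zpowers y)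
    (by rw [← sup_assoc, sup_eq_left.2 (zpowers_le.2 (hZ.ge e))] at k6
        rw [k6]; exact Nat.le_mul_of_pos_left _ hp.out.pos) (by
      rw [← sup_assoc, sup_eq_left.2 (zpowers_le.2 (hZ.ge e))] at k6
      refine sup_le h2.le (zpowers_le.2 ⟨k3, fun c hc => mem_centralizer_singleton_iff.1
        ((?_ : E ≤ centralizer {y}) hc)⟩)
      exact k6 ▸ sup_le (center_le_centralizer _)
        (zpowers_le.2 (mem_centralizer_singleton_iff.2 rfl))))
  have k := ez.cast ((M5.eig h hna h8 (ey.mono g31)).2.1 z h11)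
    (gam_anti (by have := hp.out.two_le; omega) (h.pow_mem' one_le_two h11)) h12
  rw [Nat.cast_pow, neg_one_cast] at k
  exact two_ne hp2 (by linear_combination -k)

theorem pearl_sq (h3 : ∀ Q, F.IsEssential p Q → Nat.card Q ≠ p ^ 3) (hE : F.IsEssential p E)
    (h2 : Nat.card E = p ^ 2) {a b : ℕ} (hab : a * b ≡ 1 [MOD p]) :
    ∃ τ ∈ AutF F, ∃ z y, z ∈ gam G 3 ∧ z ≠ 1 ∧ y ∉ twoStep G 1 ∧ τ z = z ^ a ∧ τ y = y ^ b ∧
      zpowers z ⊔ zpowers y = E := by
  have h := mc_of_pearl hc hE (Or.inl h2)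
  have hS := PG.isPGroup_top h.pg
  have hZ : center G = gam G 3 := Trans.MaxClass.center_eq h.card h.ne (by omega)
  have hZc : Nat.card (center G) = p := Trans.MaxClass.card_center h.card h.ne (by omega)
  have h1 : center G ≤ E := cent_top.ge.trans (cent_le_of_isCentric hE.1)
  obtain ⟨g, z, y, k1, -, -, k2, k3, k4, k5, k6, k7, s, k8, k9⟩ := exists_torus_ess hS hF hE bot_le
    (by rw [bot_subgroupOf]; exact aInv_bot) (by rw [h2, card_bot, mul_one])
    (fun s _ y hy => by rw [mem_bot.1 hy]; group) hab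
  rw [bot_sup_eq] at k6
  have hEN := lt_normalizerIn hS (lt_of_isEssential hS hF hE)
  obtain ⟨g', k10, k11⟩ := exists_ext_of_not_le hS hF k1.mor fun Q R hQ hR hle => by
    obtain ⟨f, hf⟩ := isConj_iff_piso.1 hQ
    have e1 := hf.restrict hEN.le
    have e2 : img E f ≤ R := fun x hx => hle (by
      simpa using hf.maps (hEN.le (e1.inv_maps hx)))
    have e3 := (prime_mul_card_le_of_lt' (hS.to_le le_top) hEN).trans
      (hf.card_eq.ge.trans (card_le_card_of_le hle))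
    have e4 : Nat.card R = p ^ 4 := by
      rcases ess_card hc hF hR with e | e | e
      · rw [h2, e] at e3
        nlinarith [hp.out.two_le, pow_pos hp.out.pos 2]
      · exact absurd e (h3 R hR)
      · exact e
    have e5 : centralizerIn R R = img E f := eq_of_le_of_card_le
      (fun x hx => cent_le_of (e1.isCentric hE.1) fun y hy => hx.2 y (e2 hy))
      (by rw [e1.card_eq, h2, card_cent_four hc hF hna hR e4])
    have e6 := card_le_card_of_le (show R ≤ img E f from fun x hx =>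
      cent_le_of (e1.isCentric hE.1) fun y hy => ((e5.ge hy).2 x hx).symm)
    rw [e4, e1.card_eq, h2, Nat.pow_le_pow_iff_right hp.out.one_lt] at e6
    omega
  obtain ⟨τ, hτ, e⟩ := exists_autF k10
  have hz : z ∈ gam G 3 := hZ ▸ by_contra fun e => k9 (by
    have : E ≤ centralizer {s} := sup_zpowers_eq_of_card_le (h.pg.to_subgroup E)
      (by rw [h2, hZc, sq]) h1 k2 e ▸ sup_le (center_le_centralizer _) (zpowers_le.2
        (mem_centralizer_singleton_iff.2 (mul_inv_eq_iff_eq_mul.1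
          (inv_mul_eq_one.1 (mem_bot.1 (k7 s k8))).symm).symm))
    rw [← mem_centralizer_singleton_iff.1 (this k3)]
    simp)
  refine ⟨τ, hτ, z, y, hz, fun e => ?_, fun e => ?_, ?_, ?_, k6⟩
  · obtain ⟨t, ht⟩ := exists_rad_of_essential hS hF hE
    rw [e, zpowers_one_eq_bot, bot_sup_eq] at k6
    subst k6
    exact ht.not_isCyclic inferInstance
  · have hE' : E ≤ twoStep G 1 := k6 ▸ sup_le
      (zpowers_le.2 (gam_le_twoStep (gam_anti (by omega) hz))) (zpowers_le.2 e)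
    have e1 : gam G 2 = E := eq_of_le_of_card_le
      (fun x hx => cent_le_of hE.1 fun y hy => M5.comm2 h (hE' hy) hx)
      (by rw [h.card_gam one_le_two, h2]; rfl)
    have := card_le_card_of_le (show twoStep G 1 ≤ E from fun x hx =>
      cent_le_of hE.1 fun y hy => (M5.comm2 h hx (e1.ge hy)).symm)
    rw [M5.card_two h, h2, Nat.pow_le_pow_iff_right hp.out.one_lt] at this
    omega
  · rw [e, k11 z (hEN.le k2)]; exact (inv_mul_eq_one.1 (mem_bot.1 k4)).symm
  · rw [e, k11 y (hEN.le k3)]; exact (inv_mul_eq_one.1 (mem_bot.1 k5)).symm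

theorem pearl_prime (hp2 : p ≠ 2) (h3 : ∀ Q, F.IsEssential p Q → Nat.card Q ≠ p ^ 3)
    (hE : F.IsEssential p E) (h2 : Nat.card E = p ^ 2) : p = 3 ∨ p = 7 := by
  have h := mc_of_pearl hc hE (Or.inl h2)
  obtain ⟨a, ha⟩ := exists_half hp2
  obtain ⟨τ, -, z, y, k1, k2, k3, k4, k5, -⟩ := pearl_sq hc hF hna h3 hE h2 ha
  have k := (ev_bot.2 k4).cast ((M5.eig h hna k3 (ev_of_eq k5)).2.2 z k1)
    (M5.g4 h ▸ gam_anti (by have := hp.out.two_le; omega) (h.pow_mem' (by omega) k1)) k2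
  have k' := (ZMod.natCast_eq_natCast_iff _ _ _).2 ha
  push_cast at k k'
  have : p ∣ 3 * 3 * 7 := (ZMod.natCast_eq_zero_iff _ _).1 (by
    push_cast; linear_combination k' - 2 * k)
  rcases hp.out.dvd_mul.1 this with e | e
  · exact Or.inl ((Nat.prime_dvd_prime_iff_eq hp.out Nat.prime_three).1
      ((hp.out.dvd_mul.1 e).elim id id))
  · exact Or.inr ((Nat.prime_dvd_prime_iff_eq hp.out (by norm_num)).1 e)

omit hp hc hF hna in
theorem pearl_three [Fact (Nat.Prime 3)] (hc : Nat.card G = 3 ^ 5) (hF : F.IsSaturated 3)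
    (hna : NA 3 G) (h3 : ∀ Q, F.IsEssential 3 Q → Nat.card Q ≠ 3 ^ 3) (hE : F.IsEssential 3 E)
    (h2 : Nat.card E = 3 ^ 2) : ¬ ⊤ ≤ F.focalSubgroup := fun hfoc => by
  have h := mc_of_pearl hc hE (Or.inl h2)
  have hS := PG.isPGroup_top h.pg
  have h1 : F.focalSubgroup ≤ Dd F := focal_le_of hS hF (by
    rintro Q (rfl | hQ) f hf
    · exact trivMod_Dd hf
    rcases ess_card hc hF hQ with e | e | e
    · obtain ⟨τ, hτ, z, y, k1, -, -, -, k5, rfl⟩ := pearl_sq hc hF hna h3 hQ e (a := 2) (b := 2)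
        (by decide)
      have : zpowers z ⊔ zpowers y ≤ Dd F := sup_le
        (zpowers_le.2 (commutator_le_Dd (gam_anti (i := 1) (by omega) k1)))
        (zpowers_le.2 (by simpa [k5, sq] using mem_Dd hτ y))
      exact fun x hx => this (mul_mem (inv_mem hx) (hf.maps hx))
    · exact absurd e (h3 Q hQ)
    · exact four_triv h.pg hF hc hQ e (fun e' => hna Q ⟨⟨e'⟩⟩ e) hf)
  obtain ⟨u, hu, hu'⟩ := M5.exists_u h
  refine hu' (mem_of_mem_Dd h.pg hF le_rfl (AInv.of_char _) (fun τ _ => ?_) (h1 (hfoc trivial)))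
  obtain ⟨x, -, hx⟩ := SetLike.exists_of_lt (lt_top_iff_ne_top.2 (h.twoStep_ne_top (i := 1) (by omega)))
  obtain ⟨l, hl⟩ := exists_ev (τ := τ) ((M5.sup_top h hx).ge trivial)
  have l0 := hl.ne_zero (gam_le_twoStep (h.pow_mem_gam (by omega) x)) fun e' =>
    hx (by simpa using twoStep_map 1 τ⁻¹ _ e')
  refine ev_one.1 (((M5.eig h hna hx hl).1 u hu).congr (h.pow_mem_gam (by omega) u) ?_)
  push_cast
  exact sq_three _ l0

end Cfsg.Lib.Grz
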