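import Cfsg.Agent.Grz.Flag

/-! Fusion systems on the whole ambient group: automorphisms, the commutator subgroup
`[S, Aut_F(S)]`, and essential subgroups of order `p ^ 4`. -/

namespace Cfsg.Lib.Grz

open Cfsg Cfsg.FusionSystem Subgroup Cfsg.Lib.Solv Cfsg.Lib.Fus Cfsg.Lib.Fus.Ess
open scoped commutatorElement

section Abs

variable {E : Type*} [Group E] {A T : Subgroup (MulAut E)} {t d α : MulAut E} {X Y D : Subgroup E}
  {a : ℕ}

theorem triv_comm (hX : AInv A X) (hY : AInv A Y) (hd : d ∈ A) (hα : α ∈ A)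
    (h : ∀ x ∈ X, Ev d x a Y) : Triv (α * d * α⁻¹ * d⁻¹) X Y := fun x hx => by
  have h1 := hY α hα _ (h _ (hX _ (inv_mem hα) _ (hX _ (inv_mem hd) x hx)))
  have h2 := h _ (hX _ (inv_mem hd) x hx)
  rw [Ev, MulAut.apply_inv_self] at h2
  rw [map_mul, map_inv, map_pow, MulAut.apply_inv_self] at h1
  simpa [mul_assoc] using mul_mem (inv_mem h2) h1

theorem aInv_of_four [Finite E] [Fact (Nat.Prime 3)] (h : Rad 3 A t) (hc : Nat.card E = 3 ^ 4)
    (hn : ¬ ∀ x y : E, x * y = y * x) (hR : pCoreIn 3 A ≤ Inn E) (hT : SylIn 3 T A) (ht : t ∈ T)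
    (hD : commutator E ≤ D) (hN : ∀ d ∈ A, d ∈ normalizer (T : Set (MulAut E)) →
      (orderOf d).Coprime 3 → Triv d ⊤ D) : AInv A D := by
  obtain ⟨hZ, hC, hF⟩ := h.card_four_of_not_comm hc hn
  have hCZ := PG.le_center_of_card_eq_prime h.pg _ hC
  have aZ : AInv A (center E) := AInv.of_char _
  have aC : AInv A (commutator E) := AInv.of_char _
  have hs : Nat.card (center E) = 3 * Nat.card (commutator E) := by rw [hZ, hC]; rfl
  have h1 := h.quot aZ fun h1 =>
    ((h1.trans h.pg (h.step aZ aC hCZ hs.le) aC).mono le_rfl hF.ge).of_frattini h.pg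
  have h2 : Nat.card (E ⧸ center E) = 3 ^ 2 := PG.index_eq_of_card_eq_mul (by rw [hc, hZ]; rfl)
  have h3 : ∀ x : E ⧸ center E, x ^ 3 = 1 := fun x =>
    Monoid.exponent_dvd_iff_forall_pow_eq_one.1
      ((not_isCyclic_iff_exponent_eq_prime Nat.prime_three h2).1 h1.not_isCyclic).dvd x
  obtain ⟨⟨d, hd⟩, z, y, h4, h5, h6, h7, h8, -⟩ := h1.exists_torus _ hT ht h2 h3 (a := 2) (b := 2)
    (by decide)
  have hcm := IsPGroup.isMulCommutative_of_card_eq_prime_sq h2
  have k1 : ∀ x ∈ (⊤ : Subgroup E), Ev d x 2 (center E) := fun x _ => by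
    have := pow_mod_closure (quoHom aZ ⟨d, hd⟩).toMonoidHom ⊥ (a := 2) (σ := {z, y})
      (commutator_le.2 fun a _ b _ => comm_mem_bot.2 (hcm.1.1 a b)) (by
        rintro _ (rfl | rfl)
        · exact ev_bot.2 h6
        · exact ev_bot.2 h7) (x : E ⧸ center E) (by
        rw [← Set.singleton_union, Subgroup.closure_union, ← zpowers_eq_closure,
          ← zpowers_eq_closure, h8]; trivial)
    exact ev_iff.2 (ev_bot.1 this)
  obtain ⟨c, hc1, hc2⟩ := SetLike.exists_of_lt (lt_of_le_of_ne hCZ fun e => by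
    rw [← e, hC] at hZ; omega)
  have k2 := PG.sup_zpowers_eq_of_card_eq_prime_mul Nat.prime_three hCZ hs hc1 hc2
  obtain ⟨j, hj⟩ := exists_ev (τ := d) (k2.ge (aZ d hd c hc1))
  have k3 : ∀ x ∈ center E, Ev d x j (commutator E) := fun x hx => hj.of_mem (aC d hd) (k2.ge hx)
  have k4 : AInv A (D ⊓ center E) := by
    rcases PG.eq_or_eq_of_card_eq_prime_mul Nat.prime_three hs (le_inf hD hCZ) inf_le_right with
      e | e <;> rwa [e]
  have k5 := hN d hd h4 h5
  intro α hα x hx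
  have hm : α * d * α⁻¹ * d⁻¹ ∈ A := mul_mem (mul_mem (mul_mem hα hd) (inv_mem hα)) (inv_mem hd)
  obtain ⟨g, hg⟩ := hR ((((ptr_of_triv aInv_top aZ hm (triv_comm aInv_top aZ hd hα k1)).trans h.pg
    (ptr_of_triv aZ aC hm (triv_comm aZ aC hd hα k3)) aC).mono le_rfl hF.ge).of_frattini
      h.pg).mem_pCoreIn
  have k6 : (d (α x))⁻¹ * α (d x) ∈ D := by
    have := DFunLike.congr_fun hg (d (α x))
    simp only [MulAut.mul_apply, MulAut.inv_apply_self, MulAut.conj_apply] at this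
    rw [← this, inv_mul_conj_eq]
    exact hD (commutator_mem_commutator trivial trivial)
  have k7 : (x⁻¹ * d x)⁻¹ * x ∈ D ⊓ center E := mem_inf.2 ⟨D.mul_mem (D.inv_mem (k5 x trivial)) hx, by
    simpa [sq, mul_assoc] using (center E).inv_mem (k1 x trivial)⟩
  simpa [mul_assoc] using mul_mem (mul_mem (k5 (α x) trivial) k6) (k4 α hα _ k7).1

end Abs

variable {G : Type*} [Group G] {F : FusionSystem (⊤ : Subgroup G)} {p : ℕ} {g f : Equiv.Perm G}
  {E W : Subgroup G} {τ : MulAut G} {n : G}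

/-- The automorphisms of the ambient group in the system. -/
def AutF (F : FusionSystem (⊤ : Subgroup G)) : Subgroup (MulAut G) where
  carrier := {τ | PIso F (MulAut.toPerm G τ) ⊤ ⊤}
  one_mem' := by
    show PIso F (MulAut.toPerm G 1) ⊤ ⊤
    rw [map_one]; exact PIso.refl F le_rfl
  mul_mem' := fun {a b} ha hb => by
    show PIso F (MulAut.toPerm G (a * b)) ⊤ ⊤
    rw [map_mul]; exact PIso.trans hb ha
  inv_mem' := fun {a} ha => by
    show PIso F (MulAut.toPerm G a⁻¹) ⊤ ⊤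
    rw [map_inv]; exact PIso.symm ha

theorem exists_autF (h : PIso F g ⊤ ⊤) : ∃ τ ∈ AutF F, ∀ x, τ x = g x :=
  ⟨{ g with map_mul' := fun _ _ => h.map_mul trivial trivial }, h, fun _ => rfl⟩

theorem conj_mem_autF (x : G) : MulAut.conj x ∈ AutF F :=
  PIso.cj F le_rfl ⟨trivial, le_normalizer (mem_top x)⟩

/-- `[S, Aut_F(S)]`. -/
def Dd (F : FusionSystem (⊤ : Subgroup G)) : Subgroup G :=
  closure {y | ∃ τ ∈ AutF F, ∃ x, y = x⁻¹ * τ x}

theorem mem_Dd (hτ : τ ∈ AutF F) (x : G) : x⁻¹ * τ x ∈ Dd F := subset_closure ⟨τ, hτ, x, rfl⟩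

theorem trivMod_Dd (h : PIso F g ⊤ ⊤) : TrivMod ⊤ (Dd F) g := fun x _ => by
  obtain ⟨τ, h1, h2⟩ := exists_autF h
  exact h2 x ▸ mem_Dd h1 x

theorem commutator_le_Dd : commutator G ≤ Dd F := commutator_le.2 fun x _ y _ => by
  have := mem_Dd (conj_mem_autF (F := F) y) x⁻¹
  rwa [MulAut.conj_apply, inv_mul_conj_eq, inv_inv] at this

theorem cent_top : centralizerIn ⊤ ⊤ = center G := by
  ext x
  exact ⟨fun h => mem_center_iff.2 fun y => h.2 y trivial,
    fun h => ⟨trivial, fun y _ => mem_center_iff.1 h y⟩⟩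

variable [Finite G] [hp : Fact p.Prime] (hG : IsPGroup p G) (hF : F.IsSaturated p)
include hG hF

theorem exists_conj_of_pow (hτ : τ ∈ AutF F) {j : ℕ} (h : τ ^ p ^ j = 1) :
    ∃ x, τ = MulAut.conj x := by
  have h1 : PIso F (MulAut.toPerm G τ) ⊤ ⊤ := hτ
  have h2 : h1.aut ^ p ^ j = 1 := aut_ext_pext fun x hx => by
    rw [h1.pext_aut_pow _ hx, ← map_pow, h, map_one, map_one]
  obtain ⟨x, -, e⟩ := mem_inn_pext.1 ((sat_aut_top (PG.isPGroup_top hG) hF).le_of_normalizes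
    (zpowers_le.2 h1.aut_mem) (PG.isPGroup_zpowers h2) le_normalizer_of_normal (mem_zpowers _))
  exact ⟨x, MulEquiv.ext fun y => (h1.pext_aut (mem_top y)).symm.trans (e y trivial)⟩

theorem mem_of_mem_Dd [W.Normal] (hW : commutator G ≤ W) (hA : AInv (AutF F) W)
    (h : ∀ τ ∈ AutF F, n⁻¹ * τ n ∈ W) (hn : n ∈ Dd F) : n ∈ W := by
  let θ := quoHom hA
  have hcm : IsMulCommutative (⊤ : Subgroup (G ⧸ W)) := ⟨⟨fun a b => Subtype.ext (by
    obtain ⟨x, hx⟩ := QuotientGroup.mk_surjective a.1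
    obtain ⟨y, hy⟩ := QuotientGroup.mk_surjective b.1
    rw [coe_mul, coe_mul, ← hx, ← hy, ← commutatorElement_eq_one_iff_mul_comm,
      ← QuotientGroup.mk'_apply, ← QuotientGroup.mk'_apply, ← map_commutatorElement]
    exact (QuotientGroup.eq_one_iff _).2 (hW (commutator_mem_commutator trivial trivial)))⟩⟩
  have h1 : ¬ p ∣ Nat.card θ.range := fun e => by
    obtain ⟨⟨_, τ, rfl⟩, hb⟩ := exists_prime_orderOf_dvd_card' p e
    obtain ⟨k, j, h2, h3⟩ := exists_pow_ppart (p := p) τ 1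
    obtain ⟨x, hx⟩ := exists_conj_of_pow hG hF (τ ^ k).2 (congrArg Subtype.val h2)
    have h4 : θ (τ ^ k) = 1 := (quoHom_eq_one_iff _ _).2 fun y _ => by
      rw [hx, MulAut.conj_apply, inv_mul_conj_eq]
      exact hW (commutator_mem_commutator trivial trivial)
    rw [← orderOf_coe] at hb
    rw [map_pow, pow_eq_self_of_modEq (n := p ^ 1) (by
      rw [pow_one, ← hb]; exact pow_orderOf_eq_one _) h3] at h4
    simp only [h4, orderOf_one] at hb
    exact hp.out.one_lt.ne hb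
  have h2 := Act.fix_inf_comm_eq_bot (φ := θ.range.subtype) (H := ⊤) (B := ⊤) (Act.inv_top _) (by
    obtain ⟨k, hk⟩ := IsPGroup.iff_card.1 (hG.to_quotient W)
    rw [card_top, card_top, hk]
    exact (hp.out.coprime_iff_not_dvd.2 h1).symm.pow_right k)
  have h3 : Dd F ≤ (Act.comm θ.range.subtype ⊤ ⊤).comap (QuotientGroup.mk' W) :=
    (closure_le _).2 (by
      rintro _ ⟨τ, hτ, x, rfl⟩
      exact Act.inv_mul_mem_comm (φ := θ.range.subtype) (x := (x : G ⧸ W))
        (b := ⟨θ ⟨τ, hτ⟩, _, rfl⟩) trivial trivial)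
  refine (QuotientGroup.eq_one_iff n).1 (h2.le ⟨⟨trivial, ?_⟩, h3 hn⟩)
  rintro ⟨_, τ, rfl⟩ -
  exact (QuotientGroup.eq.2 (h τ τ.2)).symm

theorem four_center (hc : Nat.card G = p ^ 5) (hE : F.IsEssential p E) (h4 : Nat.card E = p ^ 4)
    (hn : ¬ ∀ x y : E, x * y = y * x) :
    Nat.card (centralizerIn E E) = p ^ 2 ∧
      ∀ f : Equiv.Perm G, PIso F f E E → ∀ x ∈ center G, f x ∈ center G := by
  obtain ⟨t, ht⟩ := exists_rad_of_essential (PG.isPGroup_top hG) hF hE
  obtain ⟨hZ, hC, -⟩ := ht.card_four_of_not_comm h4 hn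
  rw [← card_map_of_injective E.subtype_injective, map_subtype_center] at hZ
  rw [← card_map_of_injective E.subtype_injective, Solv.map_subtype_commutator] at hC
  have := PG.normal_of_index_eq_prime hG (M := E)
    (PG.index_eq_of_card_eq_mul (by rw [hc, h4, pow_succ']))
  have h1 := PG.le_center_of_card_eq_prime hG _ hC
  have h2 : center G ≤ centralizerIn E E := fun x hx =>
    ⟨cent_le_of_isCentric hE.1 (cent_top.ge hx), fun y _ => mem_center_iff.1 hx y⟩
  refine ⟨hZ, fun f hf => ?_⟩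
  rcases PG.eq_or_eq_of_card_eq_prime_mul hp.out (by rw [hC, ← sq]; exact hZ) h1 h2 with e | e
  · exact e ▸ fun x => PIso.map_commutator_self hf
  · exact e ▸ fun x => PIso.map_cent_self hf

omit hp hG hF in
theorem four_triv [Fact (Nat.Prime 3)] (hG : IsPGroup 3 G) (hF : F.IsSaturated 3)
    (hc : Nat.card G = 3 ^ 5) (hE : F.IsEssential 3 E) (h4 : Nat.card E = 3 ^ 4)
    (hn : ¬ ∀ x y : E, x * y = y * x) (hf : PIso F f E E) : TrivMod E (Dd F) f := by
  have hS := PG.isPGroup_top hG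
  have := PG.normal_of_index_eq_prime hG (M := E)
    (PG.index_eq_of_card_eq_mul (by rw [hc, h4, pow_succ']))
  have hN : normalizerIn ⊤ E = ⊤ := normalizerIn_eq_of_le le_normalizer_of_normal
  obtain ⟨s, hs, hsN, -, -, h⟩ := (radIn_of_essential hS hE).exists_rad hS le_rfl
    (lt_of_isEssential hS hF hE)
  refine trivMod_of_aInv hS hF hE.2.1 (aInv_of_four h h4 hn
    ((isRadical_iff_le hS).1 (isRadical_of_isEssential hS hE)).2 (sat_sylIn hS hF hE.2.1)
    (conjAut_mem_autInducedBy hs hsN) (commutator_le.2 fun x _ y _ => commutator_le_Dd (F := F)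
      (commutator_mem_commutator (mem_top (x : G)) (mem_top (y : G))))
    fun d hd h1 h2 x _ => ?_) (by rw [hN]; exact fun g => trivMod_Dd) hf
  obtain ⟨g, h3, -, h5⟩ := exists_ext_normalizer hS hF hE.2.1 hd h1 h2
  rw [hN] at h3
  have := trivMod_Dd h3 x trivial
  rwa [h5 _ x.2, pext_coe] at this

end Cfsg.Lib.Grz
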